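import Cfsg.Agent.Lib.Linear.SpThree.Model

/-!
# Generating a symplectic group from a regular unipotent element and transvections
-/

set_option autoImplicit false

namespace Cfsg.Lib.Linear.SpThree

open Module

variable {F V : Type*} [Field F] [AddCommGroup V] [Module F V] {B : LinearMap.BilinForm F V}

/-- The vectors all whose transvections lie in `P`. -/
def Good (hA : B.IsAlt) (P : Subgroup (V ≃ₗ[F] V)) (z : V) : Prop := ∀ c, Symp.tv hA z c ∈ P

theorem good_smul {hA : B.IsAlt} {P : Subgroup (V ≃ₗ[F] V)} {z : V} (hz : Good hA P z) (a : F) :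
    Good hA P (a • z) := fun c => by rw [Symp.tv_smul]; exact hz _

theorem good_map {hA : B.IsAlt} {P : Subgroup (V ≃ₗ[F] V)} (hP : P ≤ Symp.iso B) {g : V ≃ₗ[F] V} (hg : g ∈ P)
    {z : V} (hz : Good hA P z) : Good hA P (g z) := fun c => by
  rw [← Symp.tv_conj hA (hP hg)]
  exact P.mul_mem (P.mul_mem hg (hz c)) (P.inv_mem hg)

theorem good_plane {hA : B.IsAlt} {P : Subgroup (V ≃ₗ[F] V)} (hP : P ≤ Symp.iso B) {a b : V} (ha : Good hA P a)
    (hb : Good hA P b) (hab : B a b ≠ 0) (s t : F) : Good hA P (s • a + t • b) := by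
  rcases eq_or_ne s 0 with rfl | hs
  · simpa using good_smul hb t
  have key : s • a + t • b = s • (Symp.tv hA b (t / (s * B a b)) a) := by
    rw [Symp.tv_apply, smul_add, smul_smul]
    congr 2
    field_simp
  rw [key]
  exact good_smul (good_map hP (hb _) ha) s

theorem top_of_good [FiniteDimensional F V] (hA : B.IsAlt) (hB : B.Nondegenerate) {P : Subgroup (V ≃ₗ[F] V)}
    (hP : P ≤ Symp.iso B) {ε : V} (hε : Good hA P ε) (he : ε ≠ 0) (hall : ∀ z, B z ε = 1 → Good hA P z) :
    Symp.iso B ≤ P := by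
  have hg : ∀ z, Good hA P z := by
    intro z
    by_cases h : B z ε = 0
    · rcases eq_or_ne z 0 with rfl | hz
      · simpa using good_smul hε 0
      obtain ⟨a, ha, hza⟩ : ∃ a, B a ε ≠ 0 ∧ B a z ≠ 0 := by
        obtain ⟨a₁, h1⟩ := Symp.exists_apply_ne_zero hB he
        obtain ⟨a₂, h2⟩ := Symp.exists_apply_ne_zero hB hz
        by_cases h12 : B a₁ z = 0
        · by_cases h21 : B a₂ ε = 0
          · exact ⟨a₁ + a₂, by simp [h21, h1], by simp [h12, h2]⟩
          · exact ⟨a₂, h21, h2⟩
        · exact ⟨a₁, h1, h12⟩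
      set a' := (B a ε)⁻¹ • a
      have ha' : B a' ε = 1 := by simp [a', ha]
      have h1 : Good hA P (a' + z) := hall _ (by rw [map_add, LinearMap.add_apply, ha', h, add_zero])
      have hne : B a' (a' + z) ≠ 0 := by
        rw [map_add, hA.self_eq_zero, zero_add]
        simp [a', ha, hza]
      simpa using good_plane hP (hall _ ha') h1 hne (-1) 1
    · have := good_smul (hall ((B z ε)⁻¹ • z) (by simp [h])) (B z ε)
      rwa [smul_smul, mul_inv_cancel₀ h, one_smul] at this
  rw [Symp.iso_eq_T hB hA, Symp.T, Subgroup.closure_le]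
  rintro _ ⟨v, -, c, rfl⟩
  exact hg v c

namespace Model

variable {n : ℕ} (Q : Model n B) {P : Subgroup (V ≃ₗ[F] V)}

theorem good_eps_add (hP : P ≤ Symp.iso B) (hε : Good Q.hA P Q.eps) {z : V} (hz : Good Q.hA P z)
    (h : B z Q.eps = 1) (s : F) : Good Q.hA P (z + s • Q.eps) := by
  simpa using good_plane hP hz hε (by rw [h]; exact one_ne_zero) 1 s

/-- A subspace stable under `u - 1` which contains one vector of height `2 n - 1`. -/
theorem range_N_le (S : Submodule F V) (hS : ∀ d ∈ S, Q.N d ∈ S) {f : V} (hf : B f Q.eps ≠ 0) (hfS : Q.N f ∈ S)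
    {z : V} (hz : B z Q.eps = 0) : z ∈ S := by
  obtain ⟨f', hf'⟩ := Q.decomp f
  have hpow : ∀ d ∈ S, ∀ k, (Q.N ^ k) d ∈ S := fun d hd k => by
    induction k with
    | zero => exact hd
    | succ k ih => rw [pow_succ', Module.End.mul_apply]; exact hS _ ih
  have key : ∀ j k, 1 ≤ k → 2 * n ≤ k + j → ∀ v, (Q.N ^ k) v ∈ S := by
    intro j
    induction j with
    | zero =>
      intro k _ hk v
      obtain ⟨d, rfl⟩ := Nat.exists_eq_add_of_le (show 2 * n ≤ k by omega)
      rw [pow_add, N_pow, zero_mul, LinearMap.zero_apply]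
      exact S.zero_mem
    | succ j ih =>
      intro k hk hkj v
      have hE : Q.E k ∈ S := by
        have h1 : (Q.N ^ k) f = B f Q.eps • Q.E k + (Q.N ^ (k + 1)) f' := by
          nth_rw 1 [hf']
          rw [map_add, map_smul, ← Module.End.mul_apply (Q.N ^ k) Q.N, ← pow_succ]
          rfl
        have h2 : (Q.N ^ k) f ∈ S := by
          obtain ⟨m, rfl⟩ := Nat.exists_eq_add_of_le hk
          rw [show 1 + m = m + 1 by omega, pow_succ, Module.End.mul_apply]
          exact hpow _ hfS m
        have h3 : B f Q.eps • Q.E k ∈ S := by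
          rw [show B f Q.eps • Q.E k = (Q.N ^ k) f - (Q.N ^ (k + 1)) f' by rw [h1, add_sub_cancel_right]]
          exact S.sub_mem h2 (ih (k + 1) (by omega) (by omega) _)
        exact (S.smul_mem_iff hf).1 h3
      obtain ⟨y, hy⟩ := Q.decomp v
      rw [hy, map_add, map_smul, ← Module.End.mul_apply (Q.N ^ k) Q.N, ← pow_succ]
      exact S.add_mem (S.smul_mem _ hE) (ih (k + 1) (by omega) (by omega) _)
  obtain ⟨y, hy⟩ := Q.decomp z
  rw [hy, hz, zero_smul, zero_add, ← pow_one Q.N]
  exact key (2 * n) 1 le_rfl (by omega) _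

/-- At least three scalars: the transvections at `ε` and one non-orthogonal centre give everything. -/
theorem top_of_eps [FiniteDimensional F V] (hP : P ≤ Symp.iso B) (hu : Q.u ∈ P) (hε : Good Q.hA P Q.eps) {s : F}
    (hs0 : s ≠ 0) (hs1 : s ≠ 1) {f : V} (hf : Good Q.hA P f) (hfe : B f Q.eps ≠ 0) : Symp.iso B ≤ P := by
  have line : ∀ z z', Good Q.hA P z → B z Q.eps = 1 → Good Q.hA P z' → B z' Q.eps = 1 →
      ∀ a b : F, a + b = 1 → Good Q.hA P (a • z + b • z') := by
    intro z z' hz hz1 hz' hz1' a b hab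
    obtain ⟨m, hm⟩ : ∃ m, B z (z' + m • Q.eps) ≠ 0 := by
      refine ⟨1 - B z z', ?_⟩
      simp [hz1]
    have h1 := good_plane hP hz (Q.good_eps_add hP hε hz' hz1' m) hm a b
    have h2 := Q.good_eps_add hP hε h1 (by simp [hz1, hz1', Q.hA.self_eq_zero, hab]) (-(b * m))
    convert h2 using 1
    module
  set f₀ := (B f Q.eps)⁻¹ • f with hf₀
  have h0 : Good Q.hA P f₀ := good_smul hf _
  have h01 : B f₀ Q.eps = 1 := by simp [hf₀, hfe]
  have hzero : ∀ d, B d Q.eps = 0 → B (f₀ + d) Q.eps = 1 := fun d hd => by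
    rw [map_add, LinearMap.add_apply, h01, hd, add_zero]
  have hsm : ∀ (a : F) d, B d Q.eps = 0 → Good Q.hA P (f₀ + d) → Good Q.hA P (f₀ + a • d) := fun a d hd h => by
    have h1 := line _ _ h (hzero d hd) h0 h01 a (1 - a) (by ring)
    convert h1 using 1
    module
  let S : Submodule F V :=
    { carrier := {d | B d Q.eps = 0 ∧ Good Q.hA P (f₀ + d)}
      zero_mem' := ⟨by simp, by simpa using h0⟩
      smul_mem' := fun a d hd => ⟨by simp [hd.1], hsm a d hd.1 hd.2⟩
      add_mem' := fun {d d'} hd hd' => ⟨by simp [hd.1, hd'.1], by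
        have h1 := line _ _ (hsm s⁻¹ d hd.1 hd.2) (hzero _ (by simp [hd.1])) (hsm (1 - s)⁻¹ d' hd'.1 hd'.2)
          (hzero _ (by simp [hd'.1])) s (1 - s) (by ring)
        convert h1 using 1
        have h2 : (1 - s) ≠ 0 := sub_ne_zero.2 (Ne.symm hs1)
        rw [smul_add, smul_add, smul_inv_smul₀ hs0, smul_inv_smul₀ h2]
        module⟩ }
  have hNf : Q.N f₀ ∈ S := ⟨Q.B_eps_N _, by
    rw [← u_apply]
    exact good_map hP hu h0⟩
  have hSN : ∀ d ∈ S, Q.N d ∈ S := by
    intro d hd
    have h1 : Good Q.hA P (Q.u (f₀ + d)) := good_map hP hu hd.2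
    have h2 : Q.N f₀ + (d + Q.N d) ∈ S := ⟨by simp [Q.B_eps_N, hd.1], by
      convert h1 using 1
      rw [map_add, u_apply, u_apply]
      abel⟩
    have := S.sub_mem (S.sub_mem h2 hNf) hd
    convert this using 1
    abel
  refine top_of_good Q.hA Q.hB hP hε Q.eps_ne fun z hz => ?_
  have h := Q.range_N_le S hSN (f := f₀) (by rw [h01]; exact one_ne_zero) hNf (z := z - f₀) (by simp [hz, h01])
  simpa using h.2

/-- Two scalars: a double transvection does the same. -/
theorem top_of_double [FiniteDimensional F V] (hP : P ≤ Symp.iso B) (hu : Q.u ∈ P) (h2 : ∀ a : F, a = 0 ∨ a = 1)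
    (hε : Good Q.hA P Q.eps) {f w : V} (hf : Good Q.hA P f) (hfe : B f Q.eps = 1)
    {m : ℕ} (hw : w = (Q.u ^ m) (Q.N f)) (hw1 : Good Q.hA P w) (hw2 : Good Q.hA P (w + Q.eps)) :
    Symp.iso B ≤ P := by
  have hneg : ∀ v : V, -v = v := by
    intro v
    rcases h2 (-1 : F) with h | h
    · simp at h
    · rw [← neg_one_smul F, h, one_smul]
  have hdub : ∀ v : V, v + v = 0 := fun v => by nth_rw 1 [← hneg v]; exact neg_add_cancel v
  let D : Submodule F V :=
    { carrier := {d | B d Q.eps = 0 ∧ ∀ z, Good Q.hA P z → B z Q.eps = 1 → Good Q.hA P (z + d)}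
      zero_mem' := ⟨by simp, fun z hz _ => by simpa using hz⟩
      smul_mem' := fun a d hd => by
        rcases h2 a with rfl | rfl
        · exact ⟨by simp, fun z hz _ => by simpa using hz⟩
        · simpa using hd
      add_mem' := fun {d d'} hd hd' => ⟨by simp [hd.1, hd'.1], fun z hz hz1 => by
        rw [← add_assoc]
        exact hd'.2 _ (hd.2 z hz hz1) (by simp [hz1, hd.1])⟩ }
  have hwe : B w Q.eps = 0 := by
    have : (Q.u ^ m) Q.eps = Q.eps := by
      clear hw
      induction m with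
      | zero => rfl
      | succ m ih => rw [pow_succ, LinearEquiv.mul_apply, u_eps, ih]
    rw [hw, ← this, upow_inv, B_eps_N]
  have hwD : w ∈ D := ⟨hwe, fun z hz hz1 => by
    have h3 := good_map hP (hw1 1) (good_map hP (hw2 1) (good_map hP (hε 1) hz))
    have hew : B Q.eps w = 0 := by rw [Q.skew, hwe, neg_zero]
    simp only [Symp.tv_apply, one_mul, hz1, one_smul, map_add, LinearMap.add_apply, Q.hA.self_eq_zero, hew,
      add_zero, zero_smul, map_smul, LinearMap.smul_apply, smul_eq_mul, hwe, mul_one, mul_zero] at h3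
    rcases h2 (B z w) with h | h
    · simp only [h, zero_add, one_smul, zero_smul, add_zero] at h3
      convert h3 using 1
      have := hdub Q.eps
      linear_combination (norm := module) -this
    · have h11 : (1 : F) + 1 = 0 := by
        rcases h2 ((1 : F) + 1) with e | e
        · exact e
        · simp at e
      simp only [h, h11, zero_smul, add_zero, one_smul] at h3
      have h4 := Q.good_eps_add hP hε h3 (by simp [hz1, hwe, Q.hA.self_eq_zero]) 1
      convert h4 using 1
      have := hdub Q.eps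
      rw [one_smul]
      linear_combination (norm := module) -this⟩
  have hDu : ∀ d ∈ D, Q.u d ∈ D := fun d hd => ⟨by
      rw [← Q.u_eps, u_inv, hd.1], fun z hz hz1 => by
    have hinv : Q.u⁻¹ ∈ P := P.inv_mem hu
    have hzu : Q.u (Q.u⁻¹ z) = z := by rw [← LinearEquiv.mul_apply, mul_inv_cancel]; rfl
    have := good_map hP hu (hd.2 _ (good_map hP hinv hz) (by
      rw [← Q.u_inv, hzu, u_eps, hz1]))
    rwa [map_add, hzu] at this⟩
  have hDu' : ∀ d ∈ D, Q.u⁻¹ d ∈ D := fun d hd => ⟨by
      rw [← Q.u_inv, ← LinearEquiv.mul_apply, mul_inv_cancel, u_eps]; exact hd.1, fun z hz hz1 => by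
    have hinv : Q.u⁻¹ ∈ P := P.inv_mem hu
    have hzu : Q.u⁻¹ (Q.u z) = z := by rw [← LinearEquiv.mul_apply, inv_mul_cancel]; rfl
    have := good_map hP hinv (hd.2 _ (good_map hP hu hz) (by rw [← Q.u_eps, u_inv, hz1]))
    rwa [map_add, hzu] at this⟩
  have hNf : Q.N f ∈ D := by
    have : ∀ k, ∀ d, (Q.u ^ k) d ∈ D → d ∈ D := by
      intro k
      induction k with
      | zero => exact fun d hd => hd
      | succ k ih =>
        intro d hd
        rw [pow_succ, LinearEquiv.mul_apply] at hd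
        have := hDu' _ (ih _ hd)
        rwa [← LinearEquiv.mul_apply, inv_mul_cancel] at this
    exact this m _ (hw ▸ hwD)
  have hSN : ∀ d ∈ D, Q.N d ∈ D := fun d hd => by rw [N_apply]; exact D.sub_mem (hDu d hd) hd
  refine top_of_good Q.hA Q.hB hP hε Q.eps_ne fun z hz => ?_
  have h := Q.range_N_le D hSN (f := f) (by rw [hfe]; exact one_ne_zero) hNf (z := z - f) (by simp [hz, hfe])
  simpa using h.2 f hf hfe

end Model

end Cfsg.Lib.Linear.SpThree
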