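import Cfsg.Agent.Lib.Linear.SpThree.Tools

/-!
# Explicit pairs of conjugates of a regular unipotent element generating a symplectic group
-/

set_option autoImplicit false

namespace Cfsg.Lib.Linear.SpThree

open Module

variable {F V : Type*} [Field F] [AddCommGroup V] [Module F V] {B : LinearMap.BilinForm F V}

/-- A square of a generator of the multiplicative group generates the field. -/
theorem closure_sq_eq_top [Fintype F] {γ : Fˣ} (hγ : orderOf γ = Fintype.card F - 1) :
    Subfield.closure ({(γ : F) ^ 2} : Set F) = ⊤ := by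
  classical
  set k := Subfield.closure ({(γ : F) ^ 2} : Set F) with hk
  by_contra hne
  have hcard : Fintype.card F = Fintype.card k ^ finrank k F := Module.card_eq_pow_finrank
  have h2 : 2 ≤ finrank k F := by
    by_contra hlt
    have h1 : Fintype.card F ≤ Fintype.card k := by
      have hk1 : 1 ≤ Fintype.card k := Fintype.card_pos
      rcases (show finrank k F = 0 ∨ finrank k F = 1 by omega) with e | e <;> rw [e] at hcard <;> simp at hcard <;> omega
    apply hne
    ext a
    simp only [Subfield.mem_top, iff_true]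
    have hb := (Fintype.bijective_iff_injective_and_card (Subtype.val : k → F)).2
      ⟨Subtype.val_injective, le_antisymm (Fintype.card_le_of_injective _ Subtype.val_injective) h1⟩
    obtain ⟨⟨b, hb'⟩, rfl⟩ := hb.2 a
    exact hb'
  have hsq : Fintype.card k ^ 2 ≤ Fintype.card F := by
    rw [hcard]; exact Nat.pow_le_pow_right Fintype.card_pos h2
  have hk2 : 2 ≤ Fintype.card k := Fintype.one_lt_card
  let g : k := ⟨(γ : F) ^ 2, Subfield.subset_closure (Set.mem_singleton _)⟩
  have hg : g ≠ 0 := fun h => by simpa [g] using congrArg Subtype.val h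
  have h3 : g ^ (Fintype.card k - 1) = 1 := FiniteField.pow_card_sub_one_eq_one g hg
  have h4 : γ ^ (2 * (Fintype.card k - 1)) = 1 := by
    ext
    rw [Units.val_pow_eq_pow_val, Units.val_one, pow_mul]
    simpa [g] using congrArg Subtype.val h3
  have h5 := orderOf_dvd_of_pow_eq_one h4
  rw [hγ] at h5
  have h6 := Nat.le_of_dvd (by omega) h5
  nlinarith [Nat.sub_add_cancel (show 1 ≤ Fintype.card k by omega),
    Nat.sub_add_cancel (show 1 ≤ Fintype.card F by linarith [Fintype.card_pos (α := F)])]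

/-- A generator of the multiplicative group. -/
theorem exists_gen [Fintype F] : ∃ γ : Fˣ, orderOf γ = Fintype.card F - 1 := by
  classical
  obtain ⟨γ, hγ⟩ := IsCyclic.exists_ofOrder_eq_natCard (α := Fˣ)
  exact ⟨γ, by rw [hγ, Nat.card_eq_fintype_card, Fintype.card_units]⟩

theorem gen_ne_one [Fintype F] {γ : Fˣ} (hγ : orderOf γ = Fintype.card F - 1) (hq : 3 ≤ Fintype.card F) :
    (γ : F) ≠ 1 := by
  intro h
  rw [show γ = 1 from Units.ext h, orderOf_one] at hγ
  omega

/-- In characteristic two some element of the image of `t ↦ t ^ 2 + t` generates the field. -/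
theorem exists_generating_trace_zero [Fintype F] (h2 : (2 : F) = 0) (hq : 5 ≤ Fintype.card F) :
    ∃ t : F, t ^ 2 + t ≠ 0 ∧ Subfield.closure ({((t ^ 2 + t)⁻¹) ^ 2} : Set F) = ⊤ := by
  classical
  haveI : CharP F 2 := by
    obtain ⟨p, hp⟩ := CharP.exists F
    haveI := hp
    have hd : (p : ℕ) ∣ 2 := (CharP.cast_eq_zero_iff F p 2).1 (by exact_mod_cast h2)
    rcases (Nat.dvd_prime Nat.prime_two).1 hd with h | h
    · exact absurd h (CharP.char_ne_one F p)
    · rwa [← h]
  obtain ⟨γ, hγ⟩ := exists_gen (F := F)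
  have ord : ∀ γ : Fˣ, orderOf γ = Fintype.card F - 1 → (γ : F) ^ 2 + γ ≠ 0 ∧
      (Subfield.closure ({(((γ : F) ^ 2 + γ)⁻¹) ^ 2} : Set F) ≠ ⊤ →
        ∃ r, r * r = Fintype.card F ∧ (γ : F) ^ r = γ + 1) := by
    intro γ hγ
    have h1 : (γ : F) ≠ 1 := gen_ne_one hγ (by omega)
    refine ⟨fun h => h1 ?_, fun hne => ?_⟩
    · have h' : (γ : F) * ((γ : F) + 1) = 0 := by linear_combination h
      linear_combination (mul_eq_zero.1 h').resolve_left γ.ne_zero - h2
    set μ := (γ : F) ^ 2 + γ with hμ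
    set k := Subfield.closure ({(μ⁻¹) ^ 2} : Set F) with hk
    haveI : CharP k 2 := ⟨fun x => by rw [← CharP.cast_eq_zero_iff F 2 x, Subtype.ext_iff]; simp⟩
    have hμk : μ ∈ k := by
      obtain ⟨⟨y, hy⟩, hy2⟩ := FiniteField.isSquare_of_char_two (CharP.ringChar_of_prime_eq_zero Nat.prime_two
        (by simp [CharTwo.two_eq_zero])) (⟨(μ⁻¹) ^ 2, Subfield.subset_closure (Set.mem_singleton _)⟩ : k)
      have hy' : (μ⁻¹) ^ 2 = y * y := congrArg Subtype.val hy2
      have : y = μ⁻¹ := by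
        have h' : (y - μ⁻¹) ^ 2 = 0 := by rw [sub_sq, hy', h2]; linear_combination (y * y) * h2
        exact sub_eq_zero.1 (pow_eq_zero_iff (two_ne_zero) |>.1 h')
      rw [← inv_inv μ, ← this]
      exact k.inv_mem hy
    set r := Fintype.card k with hr
    have hcard : Fintype.card F = r ^ finrank k F := Module.card_eq_pow_finrank
    have hm : 2 ≤ finrank k F := by
      by_contra hlt
      have h1 : Fintype.card F ≤ r := by
        rcases (show finrank k F = 0 ∨ finrank k F = 1 by omega) with e | e <;> rw [e] at hcard <;>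
          simp at hcard <;> omega
      apply hne
      ext a
      simp only [Subfield.mem_top, iff_true]
      have hb := (Fintype.bijective_iff_injective_and_card (Subtype.val : k → F)).2
        ⟨Subtype.val_injective, le_antisymm (Fintype.card_le_of_injective _ Subtype.val_injective) h1⟩
      obtain ⟨⟨b, hb'⟩, rfl⟩ := hb.2 a
      exact hb'
    have hr2 : 2 ≤ r := Fintype.one_lt_card
    have hsq : r * r ≤ Fintype.card F := by
      rw [hcard, ← pow_two]; exact Nat.pow_le_pow_right (by omega) hm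
    obtain ⟨e, he⟩ : ∃ e : ℕ, r = 2 ^ e := by
      obtain ⟨e, -, he⟩ := FiniteField.card k 2
      exact ⟨_, he⟩
    have hfix : μ ^ r = μ := congrArg Subtype.val (FiniteField.pow_card (⟨μ, hμk⟩ : k))
    have hroot : ((γ : F) ^ r) ^ 2 + (γ : F) ^ r = μ := by
      rw [← hfix, hμ, he, add_pow_char_pow, ← pow_mul, ← pow_mul, Nat.mul_comm]
    have hor : (γ : F) ^ r = γ ∨ (γ : F) ^ r = γ + 1 := by
      have h' : ((γ : F) ^ r - γ) * ((γ : F) ^ r - (γ + 1)) = 0 := by
        linear_combination hroot + hμ + ((γ : F) - (γ : F) * (γ : F) ^ r - (γ : F) ^ r + (γ : F) ^ 2) * h2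
      rcases mul_eq_zero.1 h' with h | h
      · exact Or.inl (sub_eq_zero.1 h)
      · exact Or.inr (sub_eq_zero.1 h)
    have hdvd : ∀ m, 1 ≤ m → (γ : F) ^ m = γ → Fintype.card F - 1 ∣ m - 1 := fun m hm h => by
      rw [← hγ]
      refine orderOf_dvd_of_pow_eq_one (Units.ext ?_)
      rw [Units.val_pow_eq_pow_val, Units.val_one]
      refine mul_right_cancel₀ γ.ne_zero ?_
      rw [← pow_succ, Nat.sub_add_cancel hm, h, one_mul]
    rcases hor with h | h
    · have h5 := Nat.le_of_dvd (by omega) (hdvd r (by omega) h)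
      nlinarith [Nat.sub_add_cancel (show 1 ≤ r by omega), Nat.sub_add_cancel (show 1 ≤ Fintype.card F by omega)]
    refine ⟨r, le_antisymm hsq ?_, h⟩
    have h' : (γ : F) ^ (r * r) = γ := by
      rw [pow_mul, h, he, add_pow_char_pow, ← he, h, one_pow]
      linear_combination h2
    have h5 := Nat.le_of_dvd (by have : 4 ≤ r * r := Nat.mul_le_mul hr2 hr2; omega)
      (hdvd (r * r) (by have : 4 ≤ r * r := Nat.mul_le_mul hr2 hr2; omega) h')
    omega
  obtain ⟨hz, h⟩ := ord γ hγ
  obtain ⟨hz', h'⟩ := ord γ⁻¹ (by rw [orderOf_inv, hγ])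
  by_contra hc
  push_neg at hc
  obtain ⟨r, hr, e⟩ := h (hc _ hz)
  obtain ⟨r', hr', e'⟩ := h' (hc _ hz')
  obtain rfl : r = r' := Nat.mul_self_inj.1 (hr.trans hr'.symm)
  rw [Units.val_inv_eq_inv_val, inv_pow, e] at e'
  have h1 := gen_ne_one hγ (by omega)
  have hp : (γ : F) + 1 ≠ 0 := fun h => h1 (by linear_combination h - h2)
  field_simp at e'
  have h3 : (γ : F) ^ 3 = 1 := by linear_combination (1 - (γ : F)) * e' + (γ : F) * h2 * 0
  have : γ ^ 3 = 1 := Units.ext (by rw [Units.val_pow_eq_pow_val, h3, Units.val_one])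
  have h5 := Nat.le_of_dvd (by omega) (orderOf_dvd_of_pow_eq_one this)
  omega

namespace Model

variable {n : ℕ} (Q : Model n B)

theorem Npow_E (k a : ℕ) : (Q.N ^ k) (Q.E a) = Q.E (k + a) := (Q.E_add k a).symm

theorem E_last_ne {a : ℕ} (h : a = 2 * n - 1) : Q.E a ≠ 0 := by subst h; exact Q.eps_ne

theorem threeGen_odd [Fintype F] [FiniteDimensional F V] (h2 : (2 : F) ≠ 0) : Q.ThreeGen := by
  classical
  have hn := Q.n2
  obtain ⟨γ, hγ⟩ := exists_gen (F := F)
  obtain ⟨l, hl2, hl0, hne⟩ : ∃ l : F, l ^ 2 = (γ : F) ^ 2 ∧ l ≠ 0 ∧ l - 2 ≠ 0 := by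
    by_cases h : (γ : F) - 2 = 0
    · refine ⟨-γ, neg_sq _, neg_ne_zero.2 γ.ne_zero, fun h' => ?_⟩
      have : (2 : F) * 2 = 0 := by linear_combination -h - h'
      exact h2 (by simpa using this)
    · exact ⟨γ, rfl, γ.ne_zero, h⟩
  set s : F := (-1) ^ n with hs
  set r : F := (2 * (l - 2))⁻¹ with hr
  set x := Q.E (n - 2) + r • Q.E n with hx
  have hs1 : (-1 : F) ^ (n - 1) = -s := by
    rw [hs]
    conv_rhs => rw [show n = n - 1 + 1 by omega, pow_succ]
    ring
  have hs2 : (-1 : F) ^ (n - 2) = s := by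
    rw [hs]
    conv_rhs => rw [show n = n - 2 + 2 by omega, pow_add]
    simp
  have hs0 : s ≠ 0 := pow_ne_zero _ (neg_ne_zero.2 one_ne_zero)
  have hH1 : B x (Q.N x) = 2 * r * s := by
    rw [hx]
    simp only [map_add, map_smul, N_E, LinearMap.add_apply, LinearMap.smul_apply, smul_eq_mul]
    show Q.G (n - 2) (n - 2 + 1) + r * Q.G n (n - 2 + 1) + r * (Q.G (n - 2) (n + 1) + r * Q.G n (n + 1)) = _
    rw [Q.G_zero (show n - 2 < n by omega) (show n - 2 + 1 < n by omega), Q.G_skew (n - 2 + 1) n, Q.G_n (show n - 2 + 1 < n by omega), Q.G_top (a := n - 2) (b := n + 1) (by omega),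
      Q.G_high (show 2 * n ≤ n + (n + 1) by omega), show n - 2 + 1 = n - 1 by omega, hs1, hs2]
    ring
  have hH2 : B x (Q.N (Q.N x)) = s := by
    rw [hx]
    simp only [map_add, map_smul, N_E, LinearMap.add_apply, LinearMap.smul_apply, smul_eq_mul]
    show Q.G (n - 2) (n - 2 + 1 + 1) + r * Q.G n (n - 2 + 1 + 1) +
      r * (Q.G (n - 2) (n + 1 + 1) + r * Q.G n (n + 1 + 1)) = _
    rw [show n - 2 + 1 + 1 = n by omega, Q.G_n (a := n - 2) (by omega), G_self,
      Q.G_high (show 2 * n ≤ n - 2 + (n + 1 + 1) by omega), Q.G_high (show 2 * n ≤ n + (n + 1 + 1) by omega), hs2]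
    ring
  have hr0 : r ≠ 0 := inv_ne_zero (mul_ne_zero h2 hne)
  have hc1 : Q.G 0 (2 * n - 2 + 1) + Q.G (2 * n - 2) 1 = 2 := by
    rw [Q.G_top (a := 0) (b := 2 * n - 2 + 1) (by omega), Q.G_top (a := 2 * n - 2) (b := 1) (by omega), (show Even (2 * n - 2) from ⟨n - 1, by omega⟩).neg_one_pow]; norm_num
  have hc2 : Q.G (2 * n - 2) (2 * n - 2 + 1) = 0 := Q.G_high (by omega)
  refine Q.threeGen_of_design (j := 2 * n - 2) (Or.inl (by omega)) (γ := -2⁻¹) (c := 1) one_ne_zero ?_
    (x := x) (K := n - 1) ?_ ?_ (l := l) (κ := 1) (τ := 2 * r * s / (2 * l)) ?_ ?_ ?_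
    (by rw [hl2]; exact closure_sq_eq_top hγ) (s := -1) (neg_ne_zero.2 one_ne_zero)
    (fun h => h2 (by linear_combination -h))
  · rw [hc1, hc2]; field_simp; ring
  · rw [hx, map_add, map_smul, Npow_E, Npow_E, Q.E_eq_zero (show 2 * n ≤ n - 1 + 2 + n by omega), smul_zero, add_zero]
    exact Q.E_last_ne (by omega)
  · rw [hx, map_add, map_smul, Npow_E, Npow_E, Q.E_eq_zero (show 2 * n ≤ n - 1 + 3 + (n - 2) by omega), Q.E_eq_zero (show 2 * n ≤ n - 1 + 3 + n by omega), smul_zero, add_zero]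
  · rw [hH1]; exact mul_ne_zero (mul_ne_zero h2 hr0) hs0
  · rw [hH1, hH2, hr]; field_simp; ring
  · rw [hH1, hc1, hc2]; field_simp; ring

theorem threeGen_even_big [Fintype F] [FiniteDimensional F V] (h2 : (2 : F) = 0) (hn3 : 3 ≤ n)
    (hq : 3 ≤ Fintype.card F) : Q.ThreeGen := by
  classical
  obtain ⟨γ, hγ⟩ := exists_gen (F := F)
  have hl1 : (γ : F) ≠ 1 := gen_ne_one hγ hq
  set l : F := (γ : F) with hl
  have hl0 : l ≠ 0 := γ.ne_zero
  have hneg : ∀ a : F, -a = a := fun a => by linear_combination -a * h2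
  have hpow : ∀ k : ℕ, (-1 : F) ^ k = 1 := fun k => by rw [hneg, one_pow]
  set σ : F := 1 + l with hσ
  have hσ0 : σ ≠ 0 := fun h => hl1 (by linear_combination h - h2)
  set x := Q.E (n - 3) + l • Q.E (n - 2) + σ • Q.E n with hx
  have hH1 : B x (Q.N x) = σ := by
    rw [hx]
    simp only [map_add, map_smul, N_E, LinearMap.add_apply, LinearMap.smul_apply, smul_eq_mul]
    show Q.G (n - 3) (n - 3 + 1) + l * Q.G (n - 2) (n - 3 + 1) + σ * Q.G n (n - 3 + 1) +
      l * (Q.G (n - 3) (n - 2 + 1) + l * Q.G (n - 2) (n - 2 + 1) + σ * Q.G n (n - 2 + 1)) +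
      σ * (Q.G (n - 3) (n + 1) + l * Q.G (n - 2) (n + 1) + σ * Q.G n (n + 1)) = _
    rw [Q.G_zero (show n - 3 < n by omega) (show n - 3 + 1 < n by omega),
      Q.G_zero (show n - 2 < n by omega) (show n - 3 + 1 < n by omega),
      Q.G_zero (show n - 3 < n by omega) (show n - 2 + 1 < n by omega),
      Q.G_zero (show n - 2 < n by omega) (show n - 2 + 1 < n by omega),
      Q.G_skew (n - 3 + 1) n, Q.G_skew (n - 2 + 1) n, Q.G_n (show n - 3 + 1 < n by omega),
      Q.G_n (show n - 2 + 1 < n by omega), Q.G_sub (a := n - 3) (b := n + 1) (by omega),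
      Q.G_top (a := n - 2) (b := n + 1) (by omega), Q.G_high (show 2 * n ≤ n + (n + 1) by omega),
      Nat.cast_sub hn3]
    simp only [hpow, hneg]
    push_cast
    linear_combination (σ + l * σ) * h2
  have hH2 : B x (Q.N (Q.N x)) = l + l ^ 2 := by
    rw [hx]
    simp only [map_add, map_smul, N_E, LinearMap.add_apply, LinearMap.smul_apply, smul_eq_mul]
    show Q.G (n - 3) (n - 3 + 1 + 1) + l * Q.G (n - 2) (n - 3 + 1 + 1) + σ * Q.G n (n - 3 + 1 + 1) +
      l * (Q.G (n - 3) (n - 2 + 1 + 1) + l * Q.G (n - 2) (n - 2 + 1 + 1) + σ * Q.G n (n - 2 + 1 + 1)) +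
      σ * (Q.G (n - 3) (n + 1 + 1) + l * Q.G (n - 2) (n + 1 + 1) + σ * Q.G n (n + 1 + 1)) = _
    rw [Q.G_zero (show n - 3 < n by omega) (show n - 3 + 1 + 1 < n by omega),
      Q.G_zero (show n - 2 < n by omega) (show n - 3 + 1 + 1 < n by omega),
      show n - 2 + 1 + 1 = n by omega, Q.G_skew (n - 3 + 1 + 1) n, Q.G_n (show n - 3 + 1 + 1 < n by omega),
      Q.G_n (show n - 3 < n by omega), Q.G_n (show n - 2 < n by omega), G_self,
      Q.G_top (a := n - 3) (b := n + 1 + 1) (by omega), Q.G_high (show 2 * n ≤ n - 2 + (n + 1 + 1) by omega),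
      Q.G_high (show 2 * n ≤ n + (n + 1 + 1) by omega)]
    simp only [hpow, hneg]
    linear_combination σ * h2
  have hc1 : Q.G 0 (2 * n - 3 + 1) + Q.G (2 * n - 3) 1 = 1 := by
    rw [Q.G_sub (a := 0) (b := 2 * n - 3 + 1) (by omega), Q.G_sub (a := 2 * n - 3) (b := 1) (by omega), hpow, hpow, Nat.cast_sub (show 3 ≤ 2 * n by omega)]
    push_cast
    linear_combination h2 * 0
  have hc2 : Q.G (2 * n - 3) (2 * n - 3 + 1) = 0 := Q.G_high (by omega)
  refine Q.threeGen_of_design (j := 2 * n - 3) (Or.inr (by omega)) (γ := 1) (c := 1) one_ne_zero ?_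
    (x := x) (K := n) ?_ ?_ (l := l) (κ := 1) (τ := σ / l) ?_ ?_ ?_ (closure_sq_eq_top hγ) (s := l) hl0 hl1
  · rw [hc1, hc2]; linear_combination h2
  · rw [hx]
    simp only [map_add, map_smul, Npow_E, Q.E_eq_zero (show 2 * n ≤ n + 2 + (n - 2) by omega),
      Q.E_eq_zero (show 2 * n ≤ n + 2 + n by omega), smul_zero, add_zero]
    exact Q.E_last_ne (by omega)
  · rw [hx]
    simp only [map_add, map_smul, Npow_E, Q.E_eq_zero (show 2 * n ≤ n + 3 + (n - 3) by omega),
      Q.E_eq_zero (show 2 * n ≤ n + 3 + (n - 2) by omega),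
      Q.E_eq_zero (show 2 * n ≤ n + 3 + n by omega), smul_zero, add_zero]
  · rw [hH1]; exact hσ0
  · rw [hH1, hH2, hσ]; linear_combination (1 + l) * h2
  · rw [hH1, hc1, hc2]; field_simp; ring

theorem threeGen_four [Fintype F] [FiniteDimensional F V] (h2 : (2 : F) = 0) (hn : n = 2)
    (hq : 5 ≤ Fintype.card F) : Q.ThreeGen := by
  classical
  subst hn
  obtain ⟨t, ht0, htgen⟩ := exists_generating_trace_zero h2 hq
  set μ := t ^ 2 + t with hμ
  have hneg : ∀ a : F, -a = a := fun a => by linear_combination -a * h2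
  have g01 : Q.G 0 1 = 0 := Q.G_zero (by omega) (by omega)
  have g02 : Q.G 0 2 = 1 := by rw [Q.G_n (show 0 < 2 by omega), pow_zero]
  have g12 : Q.G 1 2 = 1 := by rw [Q.G_n (show 1 < 2 by omega), pow_one, hneg]
  have g03 : Q.G 0 3 = 1 := by rw [Q.G_top (a := 0) (b := 3) (by omega), pow_zero]
  have g13 : Q.G 1 3 = 0 := Q.G_high (by omega)
  set x := Q.E 0 + t • Q.E 1 with hx
  have hH1 : B x (Q.N x) = μ := by
    rw [hx]
    simp only [map_add, map_smul, N_E, LinearMap.add_apply, LinearMap.smul_apply, smul_eq_mul]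
    show Q.G 0 1 + t * Q.G 1 1 + t * (Q.G 0 2 + t * Q.G 1 2) = _
    rw [g01, G_self, g02, g12, hμ]; ring
  have hH2 : B x (Q.N (Q.N x)) = 1 := by
    rw [hx]
    simp only [map_add, map_smul, N_E, LinearMap.add_apply, LinearMap.smul_apply, smul_eq_mul]
    show Q.G 0 2 + t * Q.G 1 2 + t * (Q.G 0 3 + t * Q.G 1 3) = _
    rw [g02, g12, g03, g13]; linear_combination t * h2
  obtain ⟨κ, hκ⟩ := FiniteField.isSquare_of_char_two (F := F) (CharP.ringChar_of_prime_eq_zero Nat.prime_two
    (by exact_mod_cast h2)) (μ)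
  obtain ⟨γ, hγ⟩ := exists_gen (F := F)
  refine Q.threeGen_of_design (j := 1) (Or.inr (by omega)) (γ := t) (c := μ) ht0 ?_
    (x := x) (K := 1) ?_ ?_ (l := μ⁻¹) (κ := κ) (τ := t) ?_ ?_ ?_ htgen (s := (γ : F)) γ.ne_zero
    (gen_ne_one hγ (by omega))
  · show t * (Q.G 0 2 + Q.G 1 1) + t ^ 2 * Q.G 1 2 + μ = 0
    rw [g02, G_self, g12, hμ]; linear_combination (t + t ^ 2) * h2
  · rw [hx, map_add, map_smul, Npow_E, Npow_E, Q.E_eq_zero (show 2 * 2 ≤ 1 + 2 + 1 by omega), smul_zero, add_zero]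
    exact Q.E_last_ne (by omega)
  · rw [hx, map_add, map_smul, Npow_E, Npow_E, Q.E_eq_zero (show 2 * 2 ≤ 1 + 3 + 0 by omega),
      Q.E_eq_zero (show 2 * 2 ≤ 1 + 3 + 1 by omega), smul_zero, add_zero]
  · rw [hH1]; exact ht0
  · rw [hH1, hH2, inv_mul_cancel₀ ht0]; linear_combination μ * h2
  · show μ⁻¹ * κ ^ 2 * (t * (Q.G 0 2 + Q.G 1 1) + t ^ 2 * Q.G 1 2) = _
    rw [hH1, g02, G_self, g12, pow_two κ, ← hκ]
    field_simp
    rw [hμ]; ring

theorem threeGen_two [Finite F] [FiniteDimensional F V] (h2 : ∀ a : F, a = 0 ∨ a = 1) (hn3 : 3 ≤ n) :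
    Q.ThreeGen := by
  have h11 : (2 : F) = 0 := by
    rcases h2 2 with e | e
    · exact e
    · exact absurd e (by intro h; exact one_ne_zero (α := F) (by linear_combination h))
  have hneg : ∀ a : F, -a = a := fun a => by linear_combination -a * h11
  have hpow : ∀ k : ℕ, (-1 : F) ^ k = 1 := fun k => by rw [hneg, one_pow]
  set j := 2 * n - 3 with hj
  have hc1 : Q.G 0 (j + 1) + Q.G j 1 = 1 := by
    rw [Q.G_sub (a := 0) (b := j + 1) (by omega), Q.G_sub (a := j) (b := 1) (by omega), hpow, hpow, hj, Nat.cast_sub (show 3 ≤ 2 * n by omega)]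
    push_cast
    linear_combination h11 * 0
  have hc2 : Q.G j (j + 1) = 0 := Q.G_high (by omega)
  set f := Q.e + (1 : F) • Q.E j with hf
  have hfe : B f Q.eps = 1 := Q.B_pert_eps (by omega)
  have hψ : ∀ k, k ≤ n → B f ((Q.u ^ k) f) = (if k = n then 1 else 0) + (k : F) := by
    intro k hk
    have e0 : B Q.e ((Q.u ^ k) Q.e) = if k = n then (1 : F) else 0 := by
      split_ifs with h
      · subst h; simpa using Q.mid 0 (by omega)
      · simpa using Q.low 0 k (by omega) (by omega)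
    have e1 : B Q.e ((Q.u ^ k) (Q.E j)) =
        Q.G 0 j + (k : F) * Q.G 0 (j + 1) + (k.choose 2 : F) * Q.G 0 (j + 2) :=
      Q.B_upow_E (a := 0) (b := j) (by omega) k
    have e2 : B (Q.E j) ((Q.u ^ k) Q.e) =
        Q.G j 0 + (k : F) * Q.G j 1 + (k.choose 2 : F) * Q.G j 2 :=
      Q.B_upow_E (a := j) (b := 0) (by omega) k
    have e3 : B (Q.E j) ((Q.u ^ k) (Q.E j)) = 0 := by
      rw [Q.B_upow_E (a := j) (b := j) (by omega), Q.G_high (show 2 * n ≤ j + j by omega), Q.G_high (show 2 * n ≤ j + (j + 1) by omega), Q.G_high (show 2 * n ≤ j + (j + 2) by omega)]; ring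
    rw [hf, one_smul, map_add (Q.u ^ k)]
    simp only [map_add, LinearMap.add_apply]
    rw [e0, e1, e2, e3, Q.G_skew 0 j, Q.G_top (a := 0) (b := j + 2) (by omega), Q.G_top (a := j) (b := 2) (by omega),
      hpow, hpow, hneg]
    linear_combination (k : F) * hc1 + (Q.G 0 j + (k.choose 2 : F)) * h11
  have hf1 : B f (Q.u f) = 1 := by
    have := hψ 1 (by omega)
    rw [pow_one, if_neg (by omega)] at this
    rw [this]; simp
  set w := (Q.u ^ (n - 1)) (Q.N f) with hw
  have hwf : B f w = 0 := by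
    rw [hw, N_apply, map_sub, ← LinearEquiv.mul_apply, ← pow_succ, map_sub, hψ _ (by omega), hψ _ (by omega),
      if_pos (by omega), if_neg (by omega), Nat.cast_add, Nat.cast_one]
    linear_combination h11
  have hwe : B w Q.eps = 0 := by
    have : ∀ k, (Q.u ^ k) Q.eps = Q.eps := fun k => by
      induction k with
      | zero => rfl
      | succ k ih => rw [pow_succ, LinearEquiv.mul_apply, u_eps, ih]
    rw [hw, ← this (n - 1), upow_inv, B_eps_N]
  set x := Q.E (n - 1) with hx
  have hH1 : B x (Q.N x) = 1 := by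
    rw [hx, N_E, show n - 1 + 1 = n by omega]
    show Q.G (n - 1) n = 1
    rw [Q.G_n (show n - 1 < n by omega), hpow]
  have hH2 : B x (Q.N (Q.N x)) = 0 := by
    rw [hx, N_E, N_E]
    exact Q.G_high (by omega)
  have hef : B Q.eps f = 1 := by rw [Q.skew, hfe, hneg]
  have hew : B Q.eps w = 0 := by rw [Q.skew, hwe, neg_zero]
  obtain ⟨g, hg, hv0, hv1⟩ := exists_conj_three Q (x := x) (t₀ := Q.eps) (t₁ := f) (t₂ := w + Q.eps) (K := n - 2)
    (by rw [hx, Npow_E]; exact Q.E_last_ne (by omega)) (by rw [hx, Npow_E]; exact Q.E_eq_zero (by omega))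
    (by
      intro a b d h
      have e1 := congrArg (fun z => B z Q.eps) h
      simp [hfe, hwe, Q.hA.self_eq_zero] at e1
      subst e1
      simp only [zero_smul, add_zero] at h
      have e2 := congrArg Q.N h
      simp only [map_add, map_smul, N_eps, smul_zero, zero_add, add_zero, map_zero] at e2
      have hNw : Q.N w ≠ 0 := by
        have hc : Q.N w = (Q.u ^ (n - 1)) (Q.N (Q.N f)) := by
          rw [hw, N_apply, N_apply (Q := Q) (Q.N f), map_sub, ← LinearEquiv.mul_apply, ← pow_succ', pow_succ,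
            LinearEquiv.mul_apply]
        rw [hc]
        intro h0
        have h0' := (LinearEquiv.map_eq_zero_iff (Q.u ^ (n - 1))).1 h0
        have h3 : (Q.N ^ (2 * n - 1)) f = 0 := by
          rw [show 2 * n - 1 = 2 * n - 3 + 1 + 1 by omega, pow_succ, pow_succ, Module.End.mul_apply,
            Module.End.mul_apply, h0', map_zero]
        rw [N_pow_top, hfe, one_smul] at h3
        exact Q.eps_ne h3
      have hd : d = 0 := (smul_eq_zero.1 e2).resolve_right hNw
      rw [hd, zero_smul, add_zero, smul_eq_zero] at h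
      exact ⟨h.resolve_right Q.eps_ne, rfl, hd⟩)
    (by rw [hH1, hef])
    (by rw [hH1, hH2, map_add, hew, Q.hA.self_eq_zero]; linear_combination -h11)
    (by rw [hH1, map_add, hwf, hfe, zero_add])
  obtain ⟨h, hh, hseed⟩ := Q.exists_seed (j := j) (Or.inr (by omega)) (γ := 1) (c := 1)
    (by rw [hc1, hc2]; linear_combination h11)
  refine ⟨g, hg, h, hh, fun P hP hu hv hw' => ?_⟩
  rw [hseed] at hw'
  set v := g * Q.u * g⁻¹
  have hc' : Symp.tv Q.hA Q.eps (1 : F) ∈ P := by simpa using P.mul_mem (P.inv_mem hu) hw'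
  have hεG : Good Q.hA P Q.eps := fun a => by
    rcases h2 a with rfl | rfl
    · rw [Symp.tv_zero]; exact P.one_mem
    · exact hc'
  have hfG : Good Q.hA P f := hv0 ▸ good_map hP hv hεG
  have ht2 : Good Q.hA P (w + Q.eps) := hv1 ▸ good_map hP hv hfG
  have hwG : Good Q.hA P w := by
    have hne : B f (Q.u f) ≠ 0 := by rw [hf1]; exact one_ne_zero
    have h3 := good_map hP (P.pow_mem hu (n - 1)) (good_plane hP hfG (good_map hP hu hfG) hne (-1) 1)
    convert h3 using 1
    rw [hw, N_apply]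
    congr 1
    module
  exact Q.top_of_double hP hu h2 hεG hfG hfe hw hwG ht2

theorem threeGen_special [Fintype F] [FiniteDimensional F V] (hn : n = 2) (hq : Fintype.card F = 4) :
    Q.ThreeGen := by
  classical
  subst hn
  obtain ⟨γ, hγ⟩ := exists_gen (F := F)
  set θ : F := (γ : F) with hθ
  have hθ1 : θ ≠ 1 := gen_ne_one hγ (by omega)
  have hθ0 : θ ≠ 0 := γ.ne_zero
  have h11 : (2 : F) = 0 := by
    have h4 : ((Fintype.card F : ℕ) : F) = 0 := Nat.cast_card_eq_zero F
    rw [hq] at h4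
    push_cast at h4
    have : (2 : F) * 2 = 0 := by linear_combination h4
    simpa using this
  have hneg : ∀ a : F, -a = a := fun a => by linear_combination -a * h11
  have hθ3 : θ ^ 3 = 1 := by
    have := FiniteField.pow_card_sub_one_eq_one θ hθ0
    rwa [hq] at this
  have hθ2 : θ ^ 2 + θ + 1 = 0 := by
    have h' : (θ - 1) * (θ ^ 2 + θ + 1) = 0 := by linear_combination hθ3
    exact (mul_eq_zero.1 h').resolve_left (sub_ne_zero.2 hθ1)
  have hall : ∀ a : F, a = 0 ∨ a = 1 ∨ a = θ ∨ a = θ ^ 2 := by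
    intro a
    by_contra hc
    push_neg at hc
    have hcard : ({a, 0, 1, θ, θ ^ 2} : Finset F).card ≤ 4 := hq ▸ Finset.card_le_univ _
    have n1 : θ ^ 2 ≠ 1 := fun h => hθ1 (by linear_combination hθ3 - θ * h)
    have n2 : θ ^ 2 ≠ θ := fun h => hθ1 (by linear_combination hθ3 - θ * h - h)
    rw [Finset.card_insert_of_notMem (by simp [hc.1, hc.2.1, hc.2.2.1, hc.2.2.2]),
      Finset.card_insert_of_notMem (by simp [Ne.symm hθ0, Ne.symm (pow_ne_zero 2 hθ0)]),
      Finset.card_insert_of_notMem (by simp [Ne.symm hθ1, Ne.symm n1]),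
      Finset.card_insert_of_notMem (by simp [Ne.symm n2]), Finset.card_singleton] at hcard
    omega
  set e0 := Q.e with he0
  set e1 := Q.u e0 with he1
  set e2 := Q.u e1 with he2
  set e3 := Q.u e2 with he3
  have h01 : B e0 e1 = 0 := by simpa [he1, he0] using Q.low 0 1 (by omega) (by omega)
  have h02 : B e0 e2 = 1 := by simpa [he1, he0, he2, pow_two] using Q.mid 0 (by omega)
  have hu4 : Q.u e3 = e0 := by
    have h4 : Q.E 4 = 0 := Q.E_eq_zero (by omega)
    rw [E, pow_succ', pow_succ', pow_succ', pow_one] at h4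
    simp only [Module.End.mul_apply, N_apply, map_sub] at h4
    rw [he3, he2, he1, he0]
    linear_combination (norm := module) h4 +
      h11 • ((2 : F) • Q.u (Q.u (Q.u Q.e)) - (3 : F) • Q.u (Q.u Q.e) + (2 : F) • Q.u Q.e - Q.e)
  have h03 : B e0 e3 = 0 := by
    rw [← Q.u_inv e0 e3, hu4, ← he1, Q.skew, h01, neg_zero]
  have h12 : B e1 e2 = 0 := by rw [he2, he1, Q.u_inv]; exact h01
  have h13 : B e1 e3 = 1 := by rw [he3, he1, Q.u_inv]; exact h02
  have h23 : B e2 e3 = 0 := by rw [he3, he2, Q.u_inv]; exact h12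
  have hee : ∀ x, B (Q.u x) Q.eps = B x Q.eps := fun x => by
    conv_lhs => rw [← Q.u_eps]
    exact Q.u_inv _ _
  have d0 : B e0 Q.eps = 1 := by simpa [he0, E_zero] using Q.B_E_eps 0
  have d1 : B e1 Q.eps = 1 := by rw [he1, hee, d0]
  have d2 : B e2 Q.eps = 1 := by rw [he2, hee, d1]
  have d3 : B e3 Q.eps = 1 := by rw [he3, hee, d2]
  set t := θ • e1 + e2 + θ • e3 with ht
  have hte : B t Q.eps = 1 := by
    rw [ht]; simp only [map_add, map_smul, LinearMap.add_apply, LinearMap.smul_apply, smul_eq_mul, d1, d2, d3]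
    linear_combination θ * h11
  have h0t : B e0 t = 1 := by
    rw [ht]; simp only [map_add, map_smul, smul_eq_mul, h01, h02, h03]; ring
  have h1t : B e1 t = θ := by
    rw [ht]; simp only [map_add, map_smul, smul_eq_mul, Q.hA.self_eq_zero, h12, h13]; ring
  set x := Q.E 0 + θ • Q.E 1 with hx
  have g01 : Q.G 0 1 = 0 := Q.G_zero (by omega) (by omega)
  have g02 : Q.G 0 2 = 1 := by rw [Q.G_n (show 0 < 2 by omega), pow_zero]
  have g12 : Q.G 1 2 = 1 := by rw [Q.G_n (show 1 < 2 by omega), pow_one, hneg]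
  have g03 : Q.G 0 3 = 1 := by rw [Q.G_top (a := 0) (b := 3) (by omega), pow_zero]
  have g13 : Q.G 1 3 = 0 := Q.G_high (by omega)
  have hH1 : B x (Q.N x) = 1 := by
    rw [hx]
    simp only [map_add, map_smul, N_E, LinearMap.add_apply, LinearMap.smul_apply, smul_eq_mul]
    show Q.G 0 1 + θ * Q.G 1 1 + θ * (Q.G 0 2 + θ * Q.G 1 2) = _
    rw [g01, G_self, g02, g12]; linear_combination hθ2 - h11
  have hH2 : B x (Q.N (Q.N x)) = 1 := by
    rw [hx]
    simp only [map_add, map_smul, N_E, LinearMap.add_apply, LinearMap.smul_apply, smul_eq_mul]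
    show Q.G 0 2 + θ * Q.G 1 2 + θ * (Q.G 0 3 + θ * Q.G 1 3) = _
    rw [g02, g12, g03, g13]; linear_combination θ * h11
  obtain ⟨g, hg, hv0, hv1⟩ := exists_conj_three Q (x := x) (t₀ := Q.eps) (t₁ := e0) (t₂ := t) (K := 1)
    (by
      rw [hx, map_add, map_smul, Npow_E, Npow_E, Q.E_eq_zero (show 2 * 2 ≤ 1 + 2 + 1 by omega), smul_zero, add_zero]
      exact Q.E_last_ne (by omega))
    (by rw [hx, map_add, map_smul, Npow_E, Npow_E, Q.E_eq_zero (show 2 * 2 ≤ 1 + 3 + 0 by omega),
      Q.E_eq_zero (show 2 * 2 ≤ 1 + 3 + 1 by omega), smul_zero, add_zero])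
    (by
      intro a b d h
      have k0 := congrArg (fun z => B z Q.eps) h
      have k1 := congrArg (fun z => B e0 z) h
      have k2 := congrArg (fun z => B e1 z) h
      simp only [map_add, map_smul, map_zero, LinearMap.add_apply, LinearMap.smul_apply, LinearMap.zero_apply,
        smul_eq_mul, Q.hA.self_eq_zero, d0, d1, hte, h0t, h1t, Q.skew e0 e1, h01, hneg] at k0 k1 k2
      have hd : d * (θ - 1) = 0 := by linear_combination k2 - k1
      have hd0 : d = 0 := (mul_eq_zero.1 hd).resolve_right (sub_ne_zero.2 hθ1)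
      subst hd0
      exact ⟨by linear_combination k1, by linear_combination k0, rfl⟩)
    (by rw [hH1, Q.skew, d0, hneg]) (by rw [hH1, hH2, Q.skew, hte, hneg]; linear_combination -h11)
    (by rw [hH1, h0t])
  obtain ⟨h, hh, hseed⟩ := Q.exists_seed (j := 1) (Or.inr (by omega)) (γ := θ) (c := 1)
    (by show θ * (Q.G 0 2 + Q.G 1 1) + θ ^ 2 * Q.G 1 2 + 1 = 0
        rw [g02, G_self, g12]; linear_combination hθ2)
  refine ⟨g, hg, h, hh, fun P hP hu hv hw => ?_⟩
  rw [hseed] at hw
  set v := g * Q.u * g⁻¹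
  let W : V → Prop := fun z => Symp.tv Q.hA z 1 ∈ P
  have hWm : ∀ {k : V ≃ₗ[F] V}, k ∈ P → ∀ {z}, W z → W (k z) := fun {k} hk {z} hz => by
    show _ ∈ P
    rw [← Symp.tv_conj Q.hA (hP hk)]
    exact P.mul_mem (P.mul_mem hk hz) (P.inv_mem hk)
  have hWε : W Q.eps := by
    show _ ∈ P
    simpa using P.mul_mem (P.inv_mem hu) hw
  have hW0 : W e0 := hv0 ▸ hWm hv hWε
  have hWt : W t := hv1 ▸ hWm hv hW0
  have hW1 : W e1 := hWm hu hW0
  have hW2 : W e2 := hWm hu hW1
  set q := e2 + θ • e3 with hq'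
  have hWq : W q := by
    have h3 := hWm hW1 hWt
    rw [Symp.tv_apply, one_mul, Q.skew e1 t, h1t, hneg] at h3
    convert h3 using 1
    rw [hq', ht]
    linear_combination (norm := module) -(h11 • (θ • e1))
  set r := e0 + θ • e3 with hr
  have hWr : W r := by
    have h3 := hWm hW0 hWq
    have e : B q e0 = 1 := by
      rw [hq', map_add, map_smul, LinearMap.add_apply, LinearMap.smul_apply, Q.skew e0 e2, Q.skew e0 e3, h02, h03,
        hneg, neg_zero, smul_zero, add_zero]
    rw [Symp.tv_apply, one_mul, e, one_smul] at h3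
    have h4 := hWm hW2 h3
    have e' : B (q + e0) e2 = 1 := by
      rw [hq']
      simp only [map_add, map_smul, LinearMap.add_apply, LinearMap.smul_apply, smul_eq_mul, Q.hA.self_eq_zero, h02,
        Q.skew e2 e3, h23]
      ring
    rw [Symp.tv_apply, one_mul, e', one_smul] at h4
    convert h4 using 1
    rw [hr, hq']
    linear_combination (norm := module) -(h11 • e2)
  have huq : Q.u q = e3 + θ • e0 := by rw [hq', map_add, map_smul, hu4, he3]
  let T : V → V ≃ₗ[F] V := fun z => Symp.tv Q.hA z θ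
  have hpair : T e0 * T e3 ∈ P := by
    have he : T e0 * T e3 = Symp.tv Q.hA (Q.u q) 1 * Symp.tv Q.hA r 1 := by
      refine LinearEquiv.ext fun z => ?_
      simp only [T, LinearEquiv.mul_apply, Symp.tv_apply, huq, hr, map_add, map_smul, LinearMap.add_apply,
        LinearMap.smul_apply, smul_eq_mul, Q.hA.self_eq_zero, Q.skew e0 e3, h03, hneg]
      have hc : θ ^ 2 + 1 = θ := by linear_combination hθ2 - θ * h11
      linear_combination (norm := module)
        -(hc • ((B z) e0 • e0 + (B z) e3 • e3)) - h11 • (θ • ((B z) e3 • e0 + (B z) e0 • e3))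
    rw [he]
    exact P.mul_mem (hWm hu hWq) hWr
  have hconj : ∀ a b, Q.u * (T a * T b) * Q.u⁻¹ = T (Q.u a) * T (Q.u b) := fun a b => by
    rw [show T (Q.u a) = Q.u * T a * Q.u⁻¹ from (Symp.tv_conj Q.hA Q.hu a θ).symm,
      show T (Q.u b) = Q.u * T b * Q.u⁻¹ from (Symp.tv_conj Q.hA Q.hu b θ).symm]
    group
  have hpair1 : T e1 * T e0 ∈ P := by
    have := P.mul_mem (P.mul_mem hu hpair) (P.inv_mem hu)
    rwa [hconj, hu4] at this
  have hpair2 : T e2 * T e1 ∈ P := by
    have := P.mul_mem (P.mul_mem hu hpair1) (P.inv_mem hu)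
    rwa [hconj, ← he2, ← he1] at this
  have hWw : W (e0 + e2) := by
    have h3 := hWm hW2 hW0
    rwa [Symp.tv_apply, one_mul, h02, one_smul] at h3
  have hk : (T e2 * T e1) * (T e1 * T e0) ∈ P := P.mul_mem hpair2 hpair1
  have hWθw : W (θ • (e0 + e2)) := by
    have h3 := hWm hk hW2
    convert h3 using 1
    simp only [T, LinearEquiv.mul_apply, Symp.tv_apply, map_add, map_smul, LinearMap.add_apply, LinearMap.smul_apply,
      smul_eq_mul, Q.hA.self_eq_zero, Q.skew e0 e2, Q.skew e0 e1, Q.skew e1 e2, h02, h01, h12, hneg]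
    linear_combination (norm := module)
      -(hθ2 • e2) + h11 • ((θ : F) • e2)
  have hwG : Good Q.hA P (e0 + e2) := by
    intro a
    have h1' : Symp.tv Q.hA (e0 + e2) (1 : F) ∈ P := hWw
    have h2' : Symp.tv Q.hA (e0 + e2) (θ ^ 2) ∈ P := by
      have := hWθw
      simp only [W, Symp.tv_smul, mul_one] at this
      exact this
    rcases hall a with rfl | rfl | rfl | rfl
    · rw [Symp.tv_zero]; exact P.one_mem
    · exact h1'
    · have := P.mul_mem h2' h1'
      rwa [Symp.tv_mul_tv, show (1 : F) + θ ^ 2 = θ by linear_combination hθ2 - θ * h11] at this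
    · exact h2'
  have hεG : Good Q.hA P Q.eps := by
    have h3 : Good Q.hA P e0 := by
      have := good_map hP (hW2 : Symp.tv Q.hA e2 1 ∈ P) hwG
      rw [Symp.tv_apply, one_mul, map_add, LinearMap.add_apply, h02, Q.hA.self_eq_zero, add_zero, one_smul] at this
      convert this using 1
      linear_combination (norm := module) -(h11 • e2)
    have := good_map hP (P.inv_mem hv) h3
    rwa [← hv0, ← LinearEquiv.mul_apply, inv_mul_cancel] at this
  have hfG : Good Q.hA P e0 := hv0 ▸ good_map hP hv hεG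
  exact Q.top_of_eps hP hu hεG hθ0 hθ1 hfG (by rw [d0]; exact one_ne_zero)

/-- All cases together. -/
theorem threeGen [Fintype F] [FiniteDimensional F V] (h22 : ¬ (n = 2 ∧ Fintype.card F = 2)) : Q.ThreeGen := by
  classical
  have hn := Q.n2
  by_cases h2 : (2 : F) = 0
  · by_cases hq : Fintype.card F = 2
    · refine Q.threeGen_two (fun a => ?_) (by omega)
      by_contra hc
      push_neg at hc
      have hcard : ({a, 0, 1} : Finset F).card ≤ 2 := hq ▸ Finset.card_le_univ _
      rw [Finset.card_insert_of_notMem (by simp [hc.1, hc.2]), Finset.card_insert_of_notMem (by simp),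
        Finset.card_singleton] at hcard
      omega
    have hq3 : 3 ≤ Fintype.card F := by
      have := Fintype.one_lt_card (α := F); omega
    by_cases hn3 : 3 ≤ n
    · exact Q.threeGen_even_big h2 hn3 hq3
    by_cases hq4 : Fintype.card F = 4
    · exact Q.threeGen_special (by omega) hq4
    refine Q.threeGen_four h2 (by omega) ?_
    by_contra hlt
    have h3 : ((Fintype.card F : ℕ) : F) = 0 := Nat.cast_card_eq_zero F
    rw [show Fintype.card F = 3 by omega] at h3
    push_cast at h3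
    exact one_ne_zero (α := F) (by linear_combination h3 - h2)
  · exact Q.threeGen_odd h2

end Model

end Cfsg.Lib.Linear.SpThree
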