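import Cfsg.Agent.Lib.Linear.Alternating

/-!
# A symplectic space with a regular unipotent isometry: values of the form on the basis `(u - 1) ^ a e`
-/

set_option autoImplicit false

namespace Cfsg.Lib.Linear.SpThree

open Module

variable {F V : Type*} [Field F] [AddCommGroup V] [Module F V]

/-- A regular unipotent isometry of a symplectic space of dimension `2 n`, with a cyclic vector. -/
structure Model (n : ℕ) (B : LinearMap.BilinForm F V) where
  u : V ≃ₗ[F] V
  e : V
  n2 : 2 ≤ n
  hA : B.IsAlt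
  hB : B.Nondegenerate
  dim : finrank F V = 2 * n
  hu : u ∈ Symp.iso B
  nil : (((u : V →ₗ[F] V) - 1 : Module.End F V) ^ (2 * n)) e = 0
  cyc : Submodule.span F (Set.range fun k : ℕ => (u ^ k) e) = ⊤
  low : ∀ i l, i < n → l < n → B ((u ^ i) e) ((u ^ l) e) = 0
  mid : ∀ i, i < n → B ((u ^ i) e) ((u ^ n) e) = if i = 0 then 1 else 0

namespace Model

variable {n : ℕ} {B : LinearMap.BilinForm F V} (Q : Model n B)

/-- The nilpotent part. -/
def N : Module.End F V := (Q.u : V →ₗ[F] V) - 1

/-- The vectors `(u - 1) ^ a e`. -/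
def E (a : ℕ) : V := (Q.N ^ a) Q.e

/-- The fixed vector. -/
def eps : V := Q.E (2 * n - 1)

theorem N_apply (x : V) : Q.N x = Q.u x - x := rfl

theorem u_apply (x : V) : Q.u x = x + Q.N x := by rw [N_apply, add_sub_cancel]

theorem E_zero : Q.E 0 = Q.e := rfl

theorem E_add (a b : ℕ) : Q.E (a + b) = (Q.N ^ a) (Q.E b) := by
  rw [E, E, ← Module.End.mul_apply, ← pow_add]

theorem N_E (a : ℕ) : Q.N (Q.E a) = Q.E (a + 1) := by
  rw [add_comm, E_add, pow_one]

theorem u_E (a : ℕ) : Q.u (Q.E a) = Q.E a + Q.E (a + 1) := by rw [u_apply, N_E]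

theorem E_eq_zero {a : ℕ} (h : 2 * n ≤ a) : Q.E a = 0 := by
  obtain ⟨d, rfl⟩ := Nat.exists_eq_add_of_le h
  rw [add_comm, E_add, show Q.E (2 * n) = 0 from Q.nil, map_zero]

theorem u_eps : Q.u Q.eps = Q.eps := by
  rw [eps, u_E, E_eq_zero Q (show 2 * n ≤ 2 * n - 1 + 1 by omega), add_zero]

theorem pow_succ_apply (i : ℕ) (x : V) : (Q.u ^ (i + 1)) x = (Q.u ^ i) x + (Q.u ^ i) (Q.N x) := by
  rw [pow_succ, LinearEquiv.mul_apply, u_apply, map_add]

theorem u_inv (x y : V) : B (Q.u x) (Q.u y) = B x y := Q.hu x y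

theorem upow_inv (i : ℕ) (x y : V) : B ((Q.u ^ i) x) ((Q.u ^ i) y) = B x y := pow_mem Q.hu i x y

theorem adj (x y : V) : B (Q.N x) y + B x (Q.N y) + B (Q.N x) (Q.N y) = 0 := by
  have h := Q.u_inv x y
  simp only [u_apply, map_add, LinearMap.add_apply] at h
  linear_combination h

include Q in
theorem skew (x y : V) : B y x = -B x y := (LinearMap.IsAlt.neg Q.hA x y).symm

theorem span_E : Submodule.span F (Set.range fun a : Fin (2 * n) => Q.E a.val) = ⊤ := by
  set S := Submodule.span F (Set.range fun a : Fin (2 * n) => Q.E a.val)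
  have hmem : ∀ a, Q.E a ∈ S := fun a => by
    rcases Nat.lt_or_ge a (2 * n) with h | h
    · exact Submodule.subset_span ⟨⟨a, h⟩, rfl⟩
    · rw [Q.E_eq_zero h]; exact S.zero_mem
  rw [eq_top_iff, ← Q.cyc, Submodule.span_le]
  rintro _ ⟨k, rfl⟩
  suffices ∀ a, (Q.u ^ k) (Q.E a) ∈ S from this 0
  induction k with
  | zero => exact hmem
  | succ k ih =>
    intro a
    show (Q.u ^ (k + 1)) (Q.E a) ∈ S
    rw [pow_succ_apply, N_E]
    exact S.add_mem (ih a) (ih (a + 1))

/-- The basis `(u - 1) ^ a e`. -/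
noncomputable def basis : Basis (Fin (2 * n)) F V :=
  basisOfTopLeSpanOfCardEqFinrank (fun a : Fin (2 * n) => Q.E a.val) Q.span_E.ge (by rw [Q.dim, Fintype.card_fin])

theorem basis_apply (a : Fin (2 * n)) : Q.basis a = Q.E a.val :=
  congrFun (coe_basisOfTopLeSpanOfCardEqFinrank _ _ _) a

theorem N_pow : Q.N ^ (2 * n) = 0 :=
  Q.basis.ext fun a => by
    rw [basis_apply, LinearMap.zero_apply, ← E_add]
    exact Q.E_eq_zero (Nat.le_add_right _ _)

/-- The form on the basis. -/
def G (a b : ℕ) : F := B (Q.E a) (Q.E b)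

theorem G_skew (a b : ℕ) : Q.G b a = -Q.G a b := Q.skew _ _

theorem G_self (a : ℕ) : Q.G a a = 0 := Q.hA.self_eq_zero _

theorem G_rec (a b : ℕ) : Q.G (a + 1) b + Q.G a (b + 1) + Q.G (a + 1) (b + 1) = 0 := by
  have h := Q.adj (Q.E a) (Q.E b)
  rwa [N_E, N_E] at h

theorem G_zero {a b : ℕ} (ha : a < n) (hb : b < n) : Q.G a b = 0 := by
  suffices ∀ a b i l, a + i < n → b + l < n → B ((Q.u ^ i) (Q.E a)) ((Q.u ^ l) (Q.E b)) = 0 by
    simpa [G] using this a b 0 0 (by omega) (by omega)
  intro a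
  induction a with
  | zero =>
    intro b
    induction b with
    | zero => intro i l hi hl; exact Q.low i l (by omega) (by omega)
    | succ b ih =>
      intro i l hi hl
      have h1 := ih i (l + 1) hi (by omega)
      rw [pow_succ_apply, N_E, map_add, ih i l hi (by omega), zero_add] at h1
      exact h1
  | succ a ih =>
    intro b i l hi hl
    have h1 := ih b (i + 1) l (by omega) hl
    rw [pow_succ_apply, N_E, map_add, LinearMap.add_apply, ih b i l (by omega) hl, zero_add] at h1
    exact h1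

theorem G_n {a : ℕ} (ha : a < n) : Q.G a n = (-1) ^ a := by
  have h0 : ∀ b i l, i < n → l + b ≤ n → B ((Q.u ^ i) Q.e) ((Q.u ^ l) (Q.E b)) = if i = 0 ∧ l + b = n then 1 else 0 := by
    intro b
    induction b with
    | zero =>
      intro i l hi hl
      rcases Nat.lt_or_ge l n with h | h
      · rw [if_neg (by omega)]; exact Q.low i l hi h
      · obtain rfl : l = n := by omega
        simp only [add_zero, and_true]
        exact Q.mid i hi
    | succ b ih =>
      intro i l hi hl
      have h1 := ih i (l + 1) hi (by omega)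
      rw [pow_succ_apply, N_E, map_add, ih i l hi (by omega), if_neg (fun h : i = 0 ∧ l + b = n => by omega),
        zero_add, show l + 1 + b = l + (b + 1) by omega] at h1
      exact h1
  suffices ∀ a i, a + i < n → B ((Q.u ^ i) (Q.E a)) (Q.E n) = if i = 0 then (-1) ^ a else 0 by
    simpa [G] using this a 0 (by omega)
  intro a
  induction a with
  | zero =>
    intro i hi
    simpa [E_zero] using h0 n i 0 (by omega) (by omega)
  | succ a ih =>
    intro i hi
    have h1 := ih (i + 1) (by omega)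
    rw [pow_succ_apply, N_E, map_add, LinearMap.add_apply, ih i (by omega)] at h1
    simp only [Nat.succ_ne_zero, if_false] at h1
    split_ifs at h1 ⊢ with h
    · linear_combination h1
    · linear_combination h1

theorem G_high {a b : ℕ} (h : 2 * n ≤ a + b) : Q.G a b = 0 := by
  suffices ∀ d a b, 2 * n ≤ b + d → 2 * n ≤ a + b → Q.G a b = 0 from this (2 * n) a b (by omega) h
  intro d
  induction d with
  | zero => intro a b hb _; rw [G, Q.E_eq_zero (a := b) (by omega), map_zero]
  | succ d ih =>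
    intro a b hb hab
    rcases a with _ | a
    · rw [G, Q.E_eq_zero (a := b) (by omega), map_zero]
    · have h1 := Q.G_rec a b
      rw [ih a (b + 1) (by omega) (by omega), ih (a + 1) (b + 1) (by omega) (by omega)] at h1
      simpa using h1

theorem G_top {a b : ℕ} (h : a + b = 2 * n - 1) : Q.G a b = (-1) ^ a := by
  have hn := Q.n2
  have step : ∀ a b, a + b = 2 * n - 2 → Q.G (a + 1) b = -Q.G a (b + 1) := fun a b hab => by
    have h1 := Q.G_rec a b
    rw [Q.G_high (show 2 * n ≤ a + 1 + (b + 1) by omega), add_zero] at h1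
    linear_combination h1
  have all : ∀ a b, a + b = 2 * n - 1 → Q.G a b = (-1) ^ a * Q.G 0 (2 * n - 1) := by
    intro a
    induction a with
    | zero => intro b hb; rw [show b = 2 * n - 1 by omega, pow_zero, one_mul]
    | succ a ih => intro b hb; rw [step a b (by omega), ih (b + 1) (by omega), pow_succ]; ring
  have h1 := all (n - 1) n (by omega)
  rw [Q.G_n (by omega)] at h1
  have h2 : Q.G 0 (2 * n - 1) = 1 := by
    have hne : ((-1 : F) ^ (n - 1)) ≠ 0 := pow_ne_zero _ (neg_ne_zero.2 one_ne_zero)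
    exact mul_left_cancel₀ hne (by rw [mul_one, ← h1])
  rw [all a b h, h2, mul_one]

theorem G_sub {a b : ℕ} (h : a + b = 2 * n - 2) : Q.G a b = (-1) ^ a * ((n : F) - 1 - a) := by
  have hn := Q.n2
  have step : ∀ a b, a + b = 2 * n - 3 → Q.G (a + 1) b = -Q.G a (b + 1) - (-1) ^ (a + 1) := fun a b hab => by
    have h1 := Q.G_rec a b
    rw [Q.G_top (a := a + 1) (b := b + 1) (by omega)] at h1
    linear_combination h1
  have all : ∀ a b, a + b = 2 * n - 2 → Q.G a b = (-1) ^ a * (Q.G 0 (2 * n - 2) - a) := by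
    intro a
    induction a with
    | zero => intro b hb; rw [show b = 2 * n - 2 by omega]; simp
    | succ a ih =>
      intro b hb
      rw [step a b (by omega), ih (b + 1) (by omega), pow_succ]
      push_cast
      ring
  have h1 := all (n - 1) (n - 1) (by omega)
  rw [Q.G_zero (by omega) (by omega), eq_comm, mul_eq_zero, or_iff_right (pow_ne_zero _ (neg_ne_zero.2 one_ne_zero)),
    sub_eq_zero, Nat.cast_sub (by omega), Nat.cast_one] at h1
  rw [all a b h, h1]

theorem B_E_eps (a : ℕ) : B (Q.E a) Q.eps = if a = 0 then 1 else 0 := by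
  show Q.G a (2 * n - 1) = _
  split_ifs with h
  · subst h; rw [Q.G_top (by omega), pow_zero]
  · exact Q.G_high (by omega)

theorem B_eps_e : B Q.eps Q.e = -1 := by
  rw [Q.skew Q.e, show B Q.e Q.eps = 1 by simpa [E_zero] using Q.B_E_eps 0]

theorem B_eps_N (x : V) : B (Q.N x) Q.eps = 0 := by
  have h := Q.u_inv x Q.eps
  rw [u_eps, u_apply, map_add, LinearMap.add_apply] at h
  linear_combination h

theorem eps_ne : Q.eps ≠ 0 := fun h => by simpa [h] using Q.B_eps_e

theorem N_eps : Q.N Q.eps = 0 := by rw [N_apply, u_eps, sub_self]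

theorem decomp (x : V) : ∃ y, x = B x Q.eps • Q.e + Q.N y := by
  have h : (⊤ : Submodule F V) ≤ (LinearMap.range Q.N).comap
      (LinearMap.id - (B.flip Q.eps).smulRight Q.e) := by
    rw [← Q.span_E, Submodule.span_le]
    rintro _ ⟨⟨a, ha⟩, rfl⟩
    show Q.E a - B (Q.E a) Q.eps • Q.e ∈ LinearMap.range Q.N
    rw [B_E_eps]
    rcases a with _ | a
    · simp [E_zero]
    · exact ⟨Q.E a, by simp [N_E]⟩
  obtain ⟨y, hy⟩ := h (show x ∈ (⊤ : Submodule F V) from trivial)
  exact ⟨y, by rw [hy]; simp⟩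

theorem N_pow_top (x : V) : (Q.N ^ (2 * n - 1)) x = B x Q.eps • Q.eps := by
  obtain ⟨y, hy⟩ := Q.decomp x
  have hn := Q.n2
  nth_rw 1 [hy]
  rw [map_add, map_smul, ← Module.End.mul_apply (Q.N ^ _) Q.N, ← pow_succ, show 2 * n - 1 + 1 = 2 * n by omega, N_pow,
    LinearMap.zero_apply, add_zero]
  rfl

/-- Powers of `u` on a vector killed by `(u - 1) ^ 3`. -/
theorem upow_E {b : ℕ} (hb : 2 * n ≤ b + 3) (k : ℕ) :
    (Q.u ^ k) (Q.E b) = Q.E b + (k : F) • Q.E (b + 1) + (k.choose 2 : F) • Q.E (b + 2) := by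
  induction k with
  | zero => simp
  | succ k ih =>
    rw [pow_succ', LinearEquiv.mul_apply, ih]
    simp only [map_add, map_smul, u_E, Q.E_eq_zero (show 2 * n ≤ b + 2 + 1 by omega)]
    rw [show (k + 1).choose 2 = k + k.choose 2 by rw [Nat.choose_succ_succ, Nat.choose_one_right]]
    push_cast
    module

theorem B_upow_E {a b : ℕ} (h : 2 * n ≤ a + b + 3) (k : ℕ) :
    B (Q.E a) ((Q.u ^ k) (Q.E b)) = Q.G a b + (k : F) * Q.G a (b + 1) + (k.choose 2 : F) * Q.G a (b + 2) := by
  suffices ∀ (k b : ℕ), 2 * n ≤ a + b + 3 →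
      B (Q.E a) ((Q.u ^ k) (Q.E b)) = Q.G a b + (k : F) * Q.G a (b + 1) + (k.choose 2 : F) * Q.G a (b + 2) from
    this k b h
  intro k
  induction k with
  | zero => intro b _; simp [G]
  | succ k ih =>
    intro b hb
    rw [pow_succ_apply, N_E, map_add, ih b hb, ih (b + 1) (by omega),
      Q.G_high (show 2 * n ≤ a + (b + 1 + 2) by omega),
      show (k + 1).choose 2 = k + k.choose 2 by rw [Nat.choose_succ_succ, Nat.choose_one_right]]
    push_cast
    ring

end Model

end Cfsg.Lib.Linear.SpThree
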