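import Cfsg.Agent.Lib.Linear.SpThree.Core

/-!
# Conjugates of a regular unipotent element with prescribed behaviour
-/

set_option autoImplicit false

namespace Cfsg.Lib.Linear.SpThree

open Module

variable {F V : Type*} [Field F] [AddCommGroup V] [Module F V] {B : LinearMap.BilinForm F V}

/-- An endomorphism preserving a nondegenerate form, as an isometry. -/
theorem exists_iso_of_preserves [FiniteDimensional F V] (hB : B.Nondegenerate) (L : V →ₗ[F] V)
    (hL : ∀ a b, B (L a) (L b) = B a b) : ∃ g : V ≃ₗ[F] V, g ∈ Symp.iso B ∧ ∀ a, g a = L a := by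
  have hinj : Function.Injective L := by
    rw [← LinearMap.ker_eq_bot, LinearMap.ker_eq_bot']
    intro a ha
    refine hB.1 a fun b => ?_
    rw [← hL, ha, map_zero, LinearMap.zero_apply]
  exact ⟨LinearEquiv.ofInjectiveEndo L hinj, fun a b => hL a b, fun a => rfl⟩

/-- A subfield whose multiplicative closure of the coefficient set gives all coefficients. -/
theorem good_of_field [Finite F] {hA : B.IsAlt} {P : Subgroup (V ≃ₗ[F] V)} (hP : P ≤ Symp.iso B) {h : V ≃ₗ[F] V}
    (hh : h ∈ P) {f : V} {l c₀ : F} (hf : h f = l • f) (hc₀ : c₀ ≠ 0) (hmem : Symp.tv hA f c₀ ∈ P)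
    (hgen : Subfield.closure ({l ^ 2} : Set F) = ⊤) : Good hA P f := by
  classical
  let _ : Fintype F := Fintype.ofFinite F
  let R : Subfield F :=
    { carrier := {m | ∀ c, Symp.tv hA f c ∈ P → Symp.tv hA f (m * c) ∈ P}
      mul_mem' := fun {a b} ha hb c hc => by rw [mul_assoc]; exact ha _ (hb c hc)
      one_mem' := fun c hc => by rwa [one_mul]
      add_mem' := fun {a b} ha hb c hc => by
        rw [add_mul, ← Symp.tv_mul_tv]; exact P.mul_mem (hb c hc) (ha c hc)
      zero_mem' := fun c _ => by rw [zero_mul, Symp.tv_zero]; exact P.one_mem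
      neg_mem' := fun {a} ha c hc => by
        have e : Symp.tv hA f (-a * c) = (Symp.tv hA f (a * c))⁻¹ := eq_inv_of_mul_eq_one_left (by
          rw [Symp.tv_mul_tv, show a * c + -a * c = 0 by ring, Symp.tv_zero])
        rw [e]; exact P.inv_mem (ha c hc)
      inv_mem' := fun a ha => by
        rcases eq_or_ne a 0 with rfl | h0
        · rwa [inv_zero]
        have e : a⁻¹ = a ^ (Fintype.card F - 2) := by
          refine inv_eq_of_mul_eq_one_right ?_
          rw [← pow_succ', show Fintype.card F - 2 + 1 = Fintype.card F - 1 by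
            have := Fintype.one_lt_card (α := F); omega]
          exact FiniteField.pow_card_sub_one_eq_one a h0
        intro c hc
        rw [e]
        suffices ∀ k : ℕ, Symp.tv hA f (a ^ k * c) ∈ P from this _
        intro k
        induction k with
        | zero => rwa [pow_zero, one_mul]
        | succ k ih => rw [pow_succ', mul_assoc]; exact ha _ ih }
  have hl : l ^ 2 ∈ R := fun c hc => by
    rw [← Symp.tv_smul, ← hf, ← Symp.tv_conj hA (hP hh)]
    exact P.mul_mem (P.mul_mem hh hc) (P.inv_mem hh)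
  have htop : R = ⊤ := top_le_iff.1 (hgen ▸ Subfield.closure_le.2 (Set.singleton_subset_iff.2 hl))
  intro c
  have := (htop ▸ Subfield.mem_top (c / c₀) : c / c₀ ∈ R) c₀ hmem
  rwa [div_mul_cancel₀ c hc₀] at this

/-- Three prescribed consecutive vectors. -/
theorem exists_conj_three [FiniteDimensional F V] {n : ℕ} (Q : Model n B) {x t₀ t₁ t₂ : V} {K : ℕ}
    (hK : (Q.N ^ (K + 2)) x ≠ 0) (hK' : (Q.N ^ (K + 3)) x = 0)
    (hi : ∀ a b c : F, a • t₀ + b • t₁ + c • t₂ = 0 → a = 0 ∧ b = 0 ∧ c = 0)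
    (h01 : B t₀ t₁ = B x (Q.N x)) (h02 : B t₀ t₂ = 2 * B x (Q.N x) + B x (Q.N (Q.N x)))
    (h12 : B t₁ t₂ = B x (Q.N x)) :
    ∃ g ∈ Symp.iso B, (g * Q.u * g⁻¹) t₀ = t₁ ∧ (g * Q.u * g⁻¹) t₁ = t₂ := by
  set src : Fin 3 → V := ![x, Q.u x, Q.u (Q.u x)] with hsrc
  set tgt : Fin 3 → V := ![t₀, t₁, t₂] with htgt
  have hN : ∀ m, K + 3 ≤ m → (Q.N ^ m) x = 0 := fun m hm => by
    obtain ⟨d, rfl⟩ := Nat.exists_eq_add_of_le hm
    rw [add_comm, pow_add, Module.End.mul_apply, hK', map_zero]
  have hix : ∀ a b c : F, a • x + b • Q.N x + c • Q.N (Q.N x) = 0 → a = 0 ∧ b = 0 ∧ c = 0 := by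
    intro a b c h
    have ap : ∀ k, a • (Q.N ^ k) x + b • (Q.N ^ (k + 1)) x + c • (Q.N ^ (k + 2)) x = 0 := fun k => by
      have h' := congrArg (Q.N ^ k) h
      simpa [pow_succ, Module.End.mul_apply] using h'
    have a0 : a = 0 := by
      have h' := ap (K + 2)
      rw [hN (K + 2 + 1) (by omega), hN (K + 2 + 2) (by omega), smul_zero, smul_zero, add_zero, add_zero,
        smul_eq_zero] at h'
      exact h'.resolve_right hK
    have b0 : b = 0 := by
      have h' := ap (K + 1)
      rw [hN (K + 1 + 2) (by omega), a0, smul_zero, zero_smul, zero_add, add_zero, smul_eq_zero] at h'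
      exact h'.resolve_right hK
    refine ⟨a0, b0, ?_⟩
    have h' := ap K
    rw [a0, b0, zero_smul, zero_smul, zero_add, zero_add, smul_eq_zero] at h'
    exact h'.resolve_right hK
  have isrc : Function.Injective (Fintype.linearCombination F src) := by
    rw [← LinearMap.ker_eq_bot, LinearMap.ker_eq_bot']
    intro a ha
    simp only [Fintype.linearCombination_apply, Fin.sum_univ_three, hsrc] at ha
    simp only [Matrix.cons_val_zero, Matrix.cons_val_one, Matrix.cons_val, Model.u_apply, map_add] at ha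
    obtain ⟨e0, e1, e2⟩ := hix (a 0 + a 1 + a 2) (a 1 + 2 * a 2) (a 2) (by rw [← ha]; module)
    funext i
    fin_cases i
    · show a 0 = 0; linear_combination e0 - e1 + e2
    · show a 1 = 0; linear_combination e1 - 2 * e2
    · exact e2
  have itgt : Function.Injective (Fintype.linearCombination F tgt) := by
    rw [← LinearMap.ker_eq_bot, LinearMap.ker_eq_bot']
    intro a ha
    simp only [Fintype.linearCombination_apply, Fin.sum_univ_three, htgt] at ha
    obtain ⟨e0, e1, e2⟩ := hi (a 0) (a 1) (a 2) (by simpa using ha)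
    funext i
    fin_cases i
    · exact e0
    · exact e1
    · exact e2
  let X := LinearMap.range (Fintype.linearCombination F src)
  let φ : X →ₗ[F] V :=
    (Fintype.linearCombination F tgt).comp (LinearEquiv.ofInjective _ isrc).symm.toLinearMap
  have hφ : ∀ a, φ ⟨Fintype.linearCombination F src a, ⟨a, rfl⟩⟩ = Fintype.linearCombination F tgt a := fun a => by
    show Fintype.linearCombination F tgt ((LinearEquiv.ofInjective _ isrc).symm _) = _
    congr 1
    rw [LinearEquiv.symm_apply_eq]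
    rfl
  have hB01 : B x (Q.u x) = B x (Q.N x) := by rw [Q.u_apply, map_add, Q.hA.self_eq_zero, zero_add]
  have hB02 : B x (Q.u (Q.u x)) = 2 * B x (Q.N x) + B x (Q.N (Q.N x)) := by
    simp only [Model.u_apply, map_add, Q.hA.self_eq_zero]; ring
  have hB12 : B (Q.u x) (Q.u (Q.u x)) = B x (Q.N x) := by rw [Q.u_inv, hB01]
  obtain ⟨g, hg, hgx⟩ := Symp.witt Q.hB Q.hA X φ (itgt.comp (LinearEquiv.ofInjective _ isrc).symm.injective)
    (by
      rintro ⟨_, a, rfl⟩ ⟨_, b, rfl⟩
      rw [hφ, hφ]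
      show B (Fintype.linearCombination F tgt a) (Fintype.linearCombination F tgt b) =
        B (Fintype.linearCombination F src a) (Fintype.linearCombination F src b)
      simp only [Fintype.linearCombination_apply, Fin.sum_univ_three, hsrc, htgt, Matrix.cons_val_zero,
        Matrix.cons_val_one, Matrix.cons_val, map_add, map_smul, LinearMap.add_apply, LinearMap.smul_apply,
        smul_eq_mul, Q.hA.self_eq_zero]
      rw [Q.skew t₀ t₁, Q.skew t₀ t₂, Q.skew t₁ t₂, Q.skew x (Q.u x), Q.skew x (Q.u (Q.u x)),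
        Q.skew (Q.u x) (Q.u (Q.u x)), h01, h02, h12, hB01, hB02, hB12])
  have hgi : ∀ i, g (src i) = tgt i := fun i => by
    have h1 := hgx ⟨Fintype.linearCombination F src (Pi.single i 1), ⟨_, rfl⟩⟩
    rw [hφ] at h1
    simpa using h1
  have hinv : ∀ i, g⁻¹ (tgt i) = src i := fun i => by
    rw [← hgi i, ← LinearEquiv.mul_apply, inv_mul_cancel]; rfl
  refine ⟨g, Symp.T_le_iso Q.hA _ hg, ?_, ?_⟩
  · rw [LinearEquiv.mul_apply, LinearEquiv.mul_apply]
    show g (Q.u (g⁻¹ (tgt 0))) = tgt 1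
    rw [hinv, ← hgi 1]
    rfl
  · rw [LinearEquiv.mul_apply, LinearEquiv.mul_apply]
    show g (Q.u (g⁻¹ (tgt 1))) = tgt 2
    rw [hinv, ← hgi 2]
    rfl

namespace Model

variable {n : ℕ} (Q : Model n B)

/-- The value `B (y, u y)` for `y = e + τ (u - 1) ^ j e`. -/
theorem B_pert (τ : F) (j : ℕ) :
    B (Q.e + τ • Q.E j) (Q.N (Q.e + τ • Q.E j)) =
      τ * (Q.G 0 (j + 1) + Q.G j 1) + τ ^ 2 * Q.G j (j + 1) := by
  rw [← E_zero]
  simp only [map_add, map_smul, N_E, LinearMap.add_apply, LinearMap.smul_apply, smul_eq_mul]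
  have : Q.G 0 1 = 0 := Q.G_zero (by have := Q.n2; omega) (by have := Q.n2; omega)
  simp only [G] at this ⊢
  rw [this]
  ring

theorem B_pert_eps {τ : F} {j : ℕ} (hj : j ≠ 0) : B (Q.e + τ • Q.E j) Q.eps = 1 := by
  rw [← E_zero, map_add, map_smul, LinearMap.add_apply, LinearMap.smul_apply, B_E_eps, B_E_eps, if_pos rfl,
    if_neg hj, smul_zero, add_zero]

/-- The product of `u` and a transvection at `ε` is conjugate to `u`. -/
theorem exists_seed [FiniteDimensional F V] {j : ℕ} (hj : j + 2 = 2 * n ∨ j + 3 = 2 * n) {γ c : F}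
    (h : γ * (Q.G 0 (j + 1) + Q.G j 1) + γ ^ 2 * Q.G j (j + 1) + c = 0) :
    ∃ g ∈ Symp.iso B, g * Q.u * g⁻¹ = Q.u * Symp.tv Q.hA Q.eps c := by
  have hn := Q.n2
  set x := Q.e + γ • Q.E j with hx
  let M : Module.End F V := (Q.u * Symp.tv Q.hA Q.eps c : V ≃ₗ[F] V).toLinearMap - 1
  have hM : ∀ y, M y = Q.N y + (c * B y Q.eps) • Q.eps := fun y => by
    show Q.u (Symp.tv Q.hA Q.eps c y) - y = _
    rw [Symp.tv_apply, map_add, map_smul, u_eps, N_apply]
    abel
  have hM2 : ∀ k y, (M ^ (k + 2)) y = (Q.N ^ (k + 2)) y := by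
    intro k y
    induction k with
    | zero =>
      rw [pow_two, pow_two, Module.End.mul_apply, Module.End.mul_apply, hM, hM y]
      simp [N_eps, B_eps_N, Q.hA.self_eq_zero]
    | succ k ih =>
      rw [pow_succ', Module.End.mul_apply, ih, hM, pow_succ' Q.N (k + 2), Module.End.mul_apply,
        show B ((Q.N ^ (k + 2)) y) Q.eps = 0 by rw [pow_succ', Module.End.mul_apply, B_eps_N]]
      simp
  have hxe : B x Q.eps = 1 := Q.B_pert_eps (by omega)
  have hhigh : ∀ k, 2 ≤ k → (M ^ k) x = Q.E k + γ • Q.E (k + j) := fun k hk => by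
    obtain ⟨k, rfl⟩ := Nat.exists_eq_add_of_le hk
    rw [add_comm 2 k, hM2, hx, map_add, map_smul, show Q.E (k + 2 + j) = (Q.N ^ (k + 2)) (Q.E j) from Q.E_add _ _]
    rfl
  let L : V →ₗ[F] V := Q.basis.constr F fun a => (M ^ a.val) x
  have hL : ∀ a, L (Q.E a) = (M ^ a) x := fun a => by
    rcases Nat.lt_or_ge a (2 * n) with ha | ha
    · rw [show Q.E a = Q.basis ⟨a, ha⟩ from (Q.basis_apply ⟨a, ha⟩).symm, Basis.constr_basis]
    · rw [hhigh a (by omega), Q.E_eq_zero ha, Q.E_eq_zero (show 2 * n ≤ a + j by omega), map_zero, smul_zero,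
        add_zero]
  have cross : ∀ b, 2 ≤ b → Q.G 0 (b + j) + Q.G j b = 0 := by
    intro b hb
    rcases (show 2 * n ≤ b + j ∨ b + j = 2 * n - 1 by omega) with h' | h'
    · rw [Q.G_high (by omega), Q.G_high (by omega), add_zero]
    · rw [Q.G_top (by omega), Q.G_top (by omega)]
      obtain ⟨i, rfl⟩ : ∃ i, j = 2 * i + 1 := ⟨n - 2, by omega⟩
      rw [pow_succ, pow_mul]
      simp
  have hle : ∀ a b, a ≤ b → B ((M ^ a) x) ((M ^ b) x) = Q.G a b := by
    intro a b hab
    rcases Nat.eq_or_lt_of_le hab with rfl | hlt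
    · rw [Q.hA.self_eq_zero, G_self]
    rcases (show 2 ≤ a ∨ a = 0 ∨ a = 1 by omega) with ha | rfl | rfl
    · rw [hhigh a ha, hhigh b (by omega)]
      simp only [map_add, map_smul, LinearMap.add_apply, LinearMap.smul_apply, smul_eq_mul]
      simp only [← G.eq_def]
      show Q.G a b + γ * Q.G (a + j) b + γ * (Q.G a (b + j) + γ * Q.G (a + j) (b + j)) = _
      rw [Q.G_high (show 2 * n ≤ a + j + b by omega), Q.G_high (show 2 * n ≤ a + (b + j) by omega),
        Q.G_high (show 2 * n ≤ a + j + (b + j) by omega)]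
      ring
    · rw [pow_zero, Module.End.one_apply]
      rcases (show b = 1 ∨ 2 ≤ b by omega) with rfl | hb
      · rw [pow_one, hM, map_add, map_smul, hxe, smul_eq_mul, hx, B_pert, G_zero Q (a := 0) (b := 1) (by omega) (by omega)]
        linear_combination h
      · rw [hhigh b hb, hx, ← E_zero]
        simp only [map_add, map_smul, LinearMap.add_apply, LinearMap.smul_apply, smul_eq_mul]
        show Q.G 0 b + γ * Q.G j b + γ * (Q.G 0 (b + j) + γ * Q.G j (b + j)) = _
        rw [Q.G_high (show 2 * n ≤ j + (b + j) by omega)]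
        linear_combination γ * cross b hb
    · rw [pow_one, hM, hhigh b (by omega), hxe, hx, ← E_zero, map_add Q.N, map_smul Q.N, N_E, N_E]
      simp only [map_add, map_smul, LinearMap.add_apply, LinearMap.smul_apply, smul_eq_mul]
      have e1 : ∀ k, k ≠ 0 → B Q.eps (Q.E k) = 0 := fun k hk => by rw [Q.skew, B_E_eps, if_neg hk, neg_zero]
      rw [e1 b (by omega), e1 (b + j) (by omega)]
      show Q.G (0 + 1) b + γ * Q.G (j + 1) b + _ + γ * (Q.G (0 + 1) (b + j) + γ * Q.G (j + 1) (b + j) + _) = _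
      rw [Q.G_high (show 2 * n ≤ j + 1 + b by omega), Q.G_high (show 2 * n ≤ 0 + 1 + (b + j) by omega),
        Q.G_high (show 2 * n ≤ j + 1 + (b + j) by omega)]
      ring
  have hpres : ∀ a b, B (L a) (L b) = B a b := by
    have : LinearMap.compl₁₂ B L L = B := LinearMap.ext_basis Q.basis Q.basis fun a b => by
      rw [LinearMap.compl₁₂_apply, basis_apply, basis_apply, hL, hL]
      rcases le_total a.val b.val with hab | hab
      · exact hle _ _ hab
      · rw [Q.skew, hle _ _ hab, ← G_skew]; rfl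
    exact fun a b => LinearMap.congr_fun₂ this a b
  obtain ⟨g, hg, hgL⟩ := exists_iso_of_preserves Q.hB L hpres
  refine ⟨g, hg, ?_⟩
  rw [mul_inv_eq_iff_eq_mul]
  refine LinearEquiv.toLinearMap_injective (Q.basis.ext fun a => ?_)
  show g (Q.u (Q.basis a)) = (Q.u * Symp.tv Q.hA Q.eps c) (g (Q.basis a))
  rw [hgL, hgL, basis_apply, u_E, map_add, hL, hL, pow_succ', Module.End.mul_apply]
  show _ + ((Q.u * Symp.tv Q.hA Q.eps c) ((M ^ a.val) x) - (M ^ a.val) x) = _
  abel

/-- What has to be proved: two conjugates of `u` that generate with it. -/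
def ThreeGen : Prop :=
  ∃ g ∈ Symp.iso B, ∃ h ∈ Symp.iso B, ∀ P ≤ Symp.iso B,
    Q.u ∈ P → g * Q.u * g⁻¹ ∈ P → h * Q.u * h⁻¹ ∈ P → Symp.iso B ≤ P

/-- The general design. -/
theorem threeGen_of_design [Finite F] [FiniteDimensional F V] {j : ℕ} (hj : j + 2 = 2 * n ∨ j + 3 = 2 * n)
    {γ c : F} (hc : c ≠ 0) (hseed : γ * (Q.G 0 (j + 1) + Q.G j 1) + γ ^ 2 * Q.G j (j + 1) + c = 0)
    {x : V} {K : ℕ} (hK : (Q.N ^ (K + 2)) x ≠ 0) (hK' : (Q.N ^ (K + 3)) x = 0)
    {l κ τ : F} (h1 : B x (Q.N x) ≠ 0) (hl : 2 * B x (Q.N x) + B x (Q.N (Q.N x)) = l * B x (Q.N x))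
    (hκ : l * κ ^ 2 * (τ * (Q.G 0 (j + 1) + Q.G j 1) + τ ^ 2 * Q.G j (j + 1)) = B x (Q.N x))
    (hgen : Subfield.closure ({l ^ 2} : Set F) = ⊤) {s : F} (hs0 : s ≠ 0) (hs1 : s ≠ 1) : Q.ThreeGen := by
  have hn := Q.n2
  set H := B x (Q.N x)
  rw [← B_pert] at hκ
  set y := Q.e + τ • Q.E j with hy
  have hκ0 : κ ≠ 0 := fun h => h1 (by rw [← hκ, h]; ring)
  have hl0 : l ≠ 0 := fun h => h1 (by rw [← hκ, h]; ring)
  set ν := -H / κ with hν
  have hν0 : ν ≠ 0 := div_ne_zero (neg_ne_zero.2 h1) hκ0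
  have hye : B y Q.eps = 1 := Q.B_pert_eps (by omega)
  have hey : B Q.eps y = -1 := by rw [Q.skew, hye]
  have heu : B Q.eps (Q.u y) = -1 := by rw [← Q.u_eps, u_inv, hey]
  have hyu : B y (Q.u y) = B y (Q.N y) := by rw [u_apply, map_add, Q.hA.self_eq_zero, zero_add]
  obtain ⟨g, hg, hv0, hv1⟩ := exists_conj_three Q (t₀ := ν • Q.eps) (t₁ := κ • y) (t₂ := (l * κ) • Q.u y) hK hK'
    (by
      intro a b d h
      simp only [smul_smul] at h
      have e1 := congrArg (fun z => B z Q.eps) h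
      have hu1 : B (Q.u y) Q.eps = 1 := by rw [← Q.u_eps, u_inv, hye]
      simp only [map_add, map_smul, LinearMap.add_apply, LinearMap.smul_apply, Q.hA.self_eq_zero, hye, hu1, map_zero,
        LinearMap.zero_apply, smul_eq_mul] at e1
      have e2 := congrArg (Q.N ^ (2 * n - 2)) h
      have hpu : ∀ z, (Q.N ^ (2 * n - 2)) (Q.u z) = (Q.N ^ (2 * n - 2)) z + (Q.N ^ (2 * n - 1)) z := fun z => by
        rw [u_apply, map_add, ← Module.End.mul_apply _ Q.N, ← pow_succ, show 2 * n - 2 + 1 = 2 * n - 1 by omega]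
      have hpe : (Q.N ^ (2 * n - 2)) Q.eps = 0 := by
        rw [show 2 * n - 2 = 2 * n - 3 + 1 by omega, pow_succ, Module.End.mul_apply, N_eps, map_zero]
      simp only [map_add, map_smul, hpu, hpe, smul_zero, zero_add, map_zero, Q.N_pow_top, hye, one_smul] at e2
      have hsum : b * κ + d * (l * κ) = 0 := by linear_combination e1
      rw [smul_add, ← add_assoc, ← add_smul, hsum, zero_smul, zero_add, smul_eq_zero, or_iff_left Q.eps_ne,
        mul_eq_zero, or_iff_left (mul_ne_zero hl0 hκ0)] at e2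
      rw [e2, zero_mul, add_zero, mul_eq_zero, or_iff_left hκ0] at hsum
      rw [e2, hsum, zero_mul, zero_mul, zero_smul, zero_smul, add_zero, add_zero, smul_eq_zero,
        or_iff_left Q.eps_ne, mul_eq_zero, or_iff_left hν0] at h
      exact ⟨h, hsum, e2⟩)
    (by simp only [map_smul, LinearMap.smul_apply, smul_eq_mul, hey, hν]; field_simp; rfl)
    (by simp only [map_smul, LinearMap.smul_apply, smul_eq_mul, heu, hν]; field_simp; linear_combination -hl)
    (by simp only [map_smul, LinearMap.smul_apply, smul_eq_mul, hyu]; linear_combination hκ)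
  obtain ⟨h, hh, hseed'⟩ := Q.exists_seed hj hseed
  refine ⟨g, hg, h, hh, fun P hP hu hv hw => ?_⟩
  set v := g * Q.u * g⁻¹
  rw [hseed'] at hw
  have hc' : Symp.tv Q.hA Q.eps c ∈ P := by simpa using P.mul_mem (P.inv_mem hu) hw
  set f := (κ / ν) • y with hf
  have hve : v Q.eps = f := by
    have := congrArg (fun z => ν⁻¹ • z) hv0
    simp only [map_smul, inv_smul_smul₀ hν0, smul_smul] at this
    rw [this, hf, div_eq_inv_mul]
  have hvf : (Q.u⁻¹ * v) f = l • f := by
    have : v y = l • Q.u y := by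
      have := congrArg (fun z => κ⁻¹ • z) hv1
      simp only [map_smul, inv_smul_smul₀ hκ0, smul_smul] at this
      rw [this]
      congr 1
      field_simp
    rw [LinearEquiv.mul_apply, hf, map_smul, map_smul, this, map_smul, ← LinearEquiv.mul_apply, inv_mul_cancel,
      smul_comm]
    rfl
  have hfG : Good Q.hA P f := good_of_field hP (P.mul_mem (P.inv_mem hu) hv) hvf hc
    (by rw [← hve, ← Symp.tv_conj Q.hA (hP hv)]; exact P.mul_mem (P.mul_mem hv hc') (P.inv_mem hv)) hgen
  have hεG : Good Q.hA P Q.eps := by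
    have := good_map hP (P.inv_mem hv) hfG
    rwa [← hve, ← LinearEquiv.mul_apply, inv_mul_cancel] at this
  exact Q.top_of_eps hP hu hεG hs0 hs1 hfG (by
    rw [hf, map_smul, LinearMap.smul_apply, hye]
    exact smul_ne_zero (div_ne_zero hκ0 hν0) one_ne_zero)

end Model

end Cfsg.Lib.Linear.SpThree
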